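import Cfsg.Agent.Lib.Linear.TransvectionMax

/-!
# Monomial matrices

Diagonal and permutation matrices as elements of `GL`, monomial matrices, and the bound on the
support of eigenvectors of a monomial matrix `g` with `g - 1` of small rank.
-/

set_option autoImplicit false

namespace Cfsg.Lib.Linear.MonoMax

open Matrix Module
open Cfsg.Lib.Linear.TVec

variable {ι : Type} [Fintype ι] [DecidableEq ι] {F : Type*} [Field F]

/-- Every column has at most one non-zero entry. -/
def Mono (A : Matrix ι ι F) : Prop := ∀ j, ∃ i, ∀ k, k ≠ i → A k j = 0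

/-- The diagonal matrix with entries `d`. -/
def dg (d : ι → Fˣ) : GL ι F :=
  ⟨diagonal fun i => (d i : F), diagonal fun i => ((d i)⁻¹ : Fˣ),
    by simp [diagonal_mul_diagonal], by simp [diagonal_mul_diagonal]⟩

@[simp] theorem coe_dg (d : ι → Fˣ) : (dg d : Matrix ι ι F) = diagonal fun i => (d i : F) := rfl

theorem dg_inv (d : ι → Fˣ) : (dg d)⁻¹ = dg d⁻¹ := Units.ext rfl

theorem dg_mul (d e : ι → Fˣ) : dg d * dg e = dg (d * e) :=
  Units.ext (by simp [diagonal_mul_diagonal])

theorem dg_one : dg (1 : ι → Fˣ) = (1 : GL ι F) := Units.ext (by simp)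

theorem dg_mulVec (d : ι → Fˣ) (v : ι → F) :
    (dg d : Matrix ι ι F) *ᵥ v = fun i => (d i : F) * v i := by
  ext i; simp [mulVec_diagonal]

theorem vecMul_dg_inv (d : ι → Fˣ) (v : ι → F) :
    v ᵥ* (((dg d)⁻¹ : GL ι F) : Matrix ι ι F) = fun i => v i * ((d i)⁻¹ : Fˣ) := by
  ext i; simp [dg_inv, vecMul_diagonal]

theorem dg_mem_SL {d : ι → Fˣ} (h : ∏ i, d i = 1) : dg d ∈ Cfsg.Geo.specialLinear ι F := by
  refine Units.ext ?_
  rw [Matrix.GeneralLinearGroup.val_det_apply, coe_dg, det_diagonal]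
  exact_mod_cast congrArg Units.val h

theorem mono_diagonal (d : ι → F) : Mono (diagonal d) :=
  fun j => ⟨j, fun _ h => diagonal_apply_ne _ h⟩

/-- The permutation matrix of `σ`, acting by `v ↦ v ∘ σ`. -/
def pm (σ : Equiv.Perm ι) : GL ι F :=
  ⟨σ.permMatrix F, σ⁻¹.permMatrix F,
    by rw [← Matrix.permMatrix_mul, inv_mul_cancel, Matrix.permMatrix_one],
    by rw [← Matrix.permMatrix_mul, mul_inv_cancel, Matrix.permMatrix_one]⟩

theorem pm_mulVec (σ : Equiv.Perm ι) (v : ι → F) : ((pm σ : GL ι F) : Matrix ι ι F) *ᵥ v = v ∘ σ :=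
  Matrix.permMatrix_mulVec σ

theorem vecMul_pm_inv (σ : Equiv.Perm ι) (v : ι → F) :
    v ᵥ* (((pm σ)⁻¹ : GL ι F) : Matrix ι ι F) = v ∘ σ :=
  (Matrix.vecMul_permMatrix σ⁻¹).trans (by rw [Equiv.Perm.inv_def, Equiv.symm_symm])

theorem mono_pm (σ : Equiv.Perm ι) : Mono (pm (F := F) σ : Matrix ι ι F) := fun j =>
  ⟨σ.symm j, fun k hk => by
    show σ.permMatrix F k j = 0
    rw [Equiv.Perm.permMatrix, PEquiv.toMatrix_apply]
    have : σ k ≠ j := fun h => hk (by simp [← h])
    simp [this]⟩

theorem mono_mul {A B : Matrix ι ι F} (hA : Mono A) (hB : Mono B) : Mono (A * B) := by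
  intro j
  obtain ⟨b, hb⟩ := hB j
  obtain ⟨a, ha⟩ := hA b
  refine ⟨a, fun k hk => ?_⟩
  rw [Matrix.mul_apply, Finset.sum_eq_single b (fun l _ hl => by rw [hb l hl, mul_zero])
    (fun h => absurd (Finset.mem_univ b) h), ha k hk, zero_mul]

/-- The entries of an invertible monomial matrix. -/
theorem mono_rep {g : GL ι F} (h : Mono (g : Matrix ι ι F)) :
    ∃ (π : Equiv.Perm ι) (c : ι → Fˣ), ∀ i j,
      (g : Matrix ι ι F) i j = if i = π j then (c j : F) else 0 := by
  choose p hp using h
  have hne : ∀ j, (g : Matrix ι ι F) (p j) j ≠ 0 := by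
    intro j h0
    have h1 : (g⁻¹ * g : GL ι F).val j j = (1 : Matrix ι ι F) j j := by rw [inv_mul_cancel]; rfl
    rw [Units.val_mul, Matrix.mul_apply, one_apply_eq] at h1
    refine one_ne_zero (α := F) (h1.symm.trans (Finset.sum_eq_zero fun k _ => ?_))
    rcases eq_or_ne k (p j) with rfl | hk
    · rw [h0, mul_zero]
    · rw [hp j k hk, mul_zero]
  have hinj : Function.Injective p := by
    intro j j' e
    by_contra hne'
    have h1 : (g⁻¹ * g : GL ι F).val j j' = 0 := by rw [inv_mul_cancel]; exact one_apply_ne hne'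
    have h2 : (g⁻¹ * g : GL ι F).val j j = 1 := by rw [inv_mul_cancel]; exact one_apply_eq j
    rw [Units.val_mul, Matrix.mul_apply, Finset.sum_eq_single (p j')
      (fun l _ hl => by rw [hp j' l hl, mul_zero]) (fun h => absurd (Finset.mem_univ _) h)] at h1
    rw [Units.val_mul, Matrix.mul_apply, Finset.sum_eq_single (p j)
      (fun l _ hl => by rw [hp j l hl, mul_zero]) (fun h => absurd (Finset.mem_univ _) h), e] at h2
    rcases mul_eq_zero.1 h1 with h0 | h0
    · rw [h0, zero_mul] at h2; exact zero_ne_one h2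
    · exact hne j' h0
  refine ⟨Equiv.ofBijective p (Finite.injective_iff_bijective.1 hinj),
    fun j => Units.mk0 _ (hne j), fun i j => ?_⟩
  rw [Equiv.ofBijective_apply]
  split_ifs with h'
  · subst h'; rfl
  · exact hp j i h'

theorem mono_transpose {g : GL ι F} (h : Mono (g : Matrix ι ι F)) :
    Mono (g : Matrix ι ι F)ᵀ := by
  obtain ⟨π, c, hg⟩ := mono_rep h
  refine fun i => ⟨π.symm i, fun j hj => ?_⟩
  rw [transpose_apply, hg, if_neg]
  exact fun e => hj (by simp [e])

theorem mono_inv {g : GL ι F} (h : Mono (g : Matrix ι ι F)) :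
    Mono ((g⁻¹ : GL ι F) : Matrix ι ι F) := by
  obtain ⟨π, c, hg⟩ := mono_rep h
  refine fun i => ⟨π.symm i, fun k hk => ?_⟩
  have h1 : (g⁻¹ * g : GL ι F).val k (π.symm i) = 0 := by
    rw [inv_mul_cancel]; exact one_apply_ne hk
  rw [Units.val_mul, Matrix.mul_apply, Finset.sum_eq_single i
    (fun l _ hl => by rw [hg, if_neg (by simpa using hl), mul_zero])
    (fun h => absurd (Finset.mem_univ _) h), hg, if_pos (by simp)] at h1
  exact (mul_eq_zero.1 h1).resolve_right (c _).ne_zero

/-- An eigenvector with eigenvalue `≠ 1` of a monomial `g` with `(g - 1) V ⊆ W` lives on a set of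
at most `2 * dim W` coordinates. -/
theorem mono_support {g : GL ι F} (h : Mono (g : Matrix ι ι F)) {W : Submodule F (ι → F)} {R : ℕ}
    (hR : finrank F W ≤ R) (hW : ∀ v, (g : Matrix ι ι F) *ᵥ v - v ∈ W) :
    ∃ Z : Finset ι, Z.card ≤ 2 * R ∧ ∀ (v : ι → F) (ν : F),
      (g : Matrix ι ι F) *ᵥ v = ν • v → ν ≠ 1 → ∀ i ∉ Z, v i = 0 := by
  classical
  obtain ⟨π, c, hg⟩ := mono_rep h
  set Z : Finset ι := Finset.univ.filter fun j => π j ≠ j ∨ c j ≠ 1 with hZ
  refine ⟨Z, ?_, ?_⟩
  · by_contra hc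
    push_neg at hc
    suffices H : ∀ k ≤ R + 1, ∃ (U : Finset ι) (P : Submodule F (ι → F)), U.card ≤ 2 * k ∧ P ≤ W ∧
        k ≤ finrank F P ∧ ∀ v ∈ P, ∀ i ∉ U, v i = 0 by
      obtain ⟨U, P, -, hPW, hk, -⟩ := H (R + 1) le_rfl
      have := Submodule.finrank_mono hPW
      omega
    intro k
    induction k with
    | zero => exact fun _ => ⟨∅, ⊥, by simp, bot_le, Nat.zero_le _, fun v hv i _ => by
        rw [(Submodule.mem_bot F).1 hv]; rfl⟩
    | succ k ih =>
      intro hk
      obtain ⟨U, P, hU, hPW, hkP, hsup⟩ := ih (by omega)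
      obtain ⟨j, hjZ, hjU⟩ : ∃ j ∈ Z, j ∉ U :=
        Finset.exists_mem_notMem_of_card_lt_card (by omega)
      set v := (g : Matrix ι ι F) *ᵥ Pi.single j 1 - Pi.single j 1 with hv
      have hvi : ∀ i, v i = (if i = π j then (c j : F) else 0) - if i = j then 1 else 0 := by
        intro i
        simp [hv, hg, Pi.single_apply]
      have hvj : v j ≠ 0 := by
        rw [hvi, if_pos rfl]
        by_cases hπ : π j = j
        · rw [if_pos hπ.symm, sub_ne_zero]
          simp only [hZ, Finset.mem_filter, Finset.mem_univ, true_and, hπ, ne_eq, not_true,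
            false_or] at hjZ
          exact fun e => hjZ (Units.ext e)
        · rw [if_neg (Ne.symm hπ), zero_sub, neg_ne_zero]; exact one_ne_zero
      refine ⟨insert (π j) (insert j U), P ⊔ Submodule.span F {v}, ?_, ?_, ?_, ?_⟩
      · exact (Finset.card_insert_le _ _).trans
          ((Nat.add_le_add_right (Finset.card_insert_le _ _) 1).trans (by omega))
      · exact sup_le hPW ((Submodule.span_singleton_le_iff_mem _ _).2 (hW _))
      · have : P < P ⊔ Submodule.span F {v} := by
          refine lt_of_le_of_ne le_sup_left fun e => hvj (hsup v ?_ j hjU)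
          rw [e]
          exact Submodule.mem_sup_right (Submodule.mem_span_singleton_self v)
        have := Submodule.finrank_lt_finrank_of_lt this
        omega
      · intro w hw i hi
        simp only [Finset.mem_insert, not_or] at hi
        obtain ⟨p, hp, q, hq, rfl⟩ := Submodule.mem_sup.1 hw
        obtain ⟨r, rfl⟩ := Submodule.mem_span_singleton.1 hq
        simp [hsup p hp i hi.2.2, hvi, hi.1, hi.2.1]
  · intro v ν hv hν i hi
    simp only [hZ, Finset.mem_filter, Finset.mem_univ, true_and, not_or, ne_eq, not_not] at hi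
    have h1 := congrFun hv i
    rw [mulVec, dotProduct, Finset.sum_eq_single i (fun l _ hl => by
      rw [hg, if_neg (fun e => hl (π.injective (e.symm.trans hi.1.symm))), zero_mul])
      (fun h => absurd (Finset.mem_univ _) h), hg, if_pos hi.1.symm, hi.2] at h1
    simp only [Units.val_one, one_mul, Pi.smul_apply, smul_eq_mul] at h1
    by_contra hvi
    exact hν ((mul_eq_right₀ hvi).1 h1.symm)

end Cfsg.Lib.Linear.MonoMax
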