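import Cfsg.Agent.Lib.Linear.MonoMax.Elementary

/-!
# Overgroups in `SL` of the stabilizer of a decomposition with blocks of size at least two

Coordinates are indexed by `Fin t × Fin m`; the blocks are the fibres of the first projection.
-/

set_option autoImplicit false

namespace Cfsg.Lib.Linear.MonoMax

open Matrix Module
open Cfsg.Lib.Linear.TVec

variable {t m : ℕ} {F : Type*} [Field F]

/-- Every block is mapped into one block. -/
def BMono (A : Matrix (Fin t × Fin m) (Fin t × Fin m) F) : Prop :=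
  ∀ b, ∃ a, ∀ i j, j.1 = b → i.1 ≠ a → A i j = 0

/-- `M` is a subgroup of `SL` containing the block-monomial elements of determinant `1`. -/
structure OverB (M : Subgroup (GL (Fin t × Fin m) F)) : Prop where
  le : M ≤ Cfsg.Geo.specialLinear (Fin t × Fin m) F
  mono : ∀ g ∈ Cfsg.Geo.specialLinear (Fin t × Fin m) F,
    BMono (g : Matrix (Fin t × Fin m) (Fin t × Fin m) F) → g ∈ M

/-- A vector supported in block `a`. -/
def InBlock (a : Fin t) (v : Fin t × Fin m → F) : Prop := ∀ i, i.1 ≠ a → v i = 0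

theorem bmono_mul {A B : Matrix (Fin t × Fin m) (Fin t × Fin m) F} (hA : BMono A) (hB : BMono B) :
    BMono (A * B) := by
  intro b
  obtain ⟨c, hc⟩ := hB b
  obtain ⟨a, ha⟩ := hA c
  refine ⟨a, fun i j hj hi => ?_⟩
  rw [Matrix.mul_apply]
  refine Finset.sum_eq_zero fun l _ => ?_
  by_cases hl : l.1 = c
  · rw [ha i l hl hi, zero_mul]
  · rw [hc l j hj hl, mul_zero]

theorem bmono_diagonal (d : Fin t × Fin m → F) : BMono (diagonal d) :=
  fun b => ⟨b, fun i j hj hi => diagonal_apply_ne _ (fun e => hi (e ▸ hj))⟩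

theorem bmono_tvMat {a : Fin t} {z β : Fin t × Fin m → F} (hz : InBlock a z) (hβ : InBlock a β) :
    BMono (tvMat z β) := by
  intro b
  refine ⟨b, fun i j hj hi => ?_⟩
  rw [tvMat, Matrix.add_apply, one_apply_ne (fun e => hi (by rw [e]; exact hj)), zero_add, vecMulVec_apply]
  by_cases hb : b = a
  · rw [hz i (hb ▸ hi), zero_mul]
  · rw [hβ j (hj ▸ hb), mul_zero]

theorem inBlock_single {a : Fin t} (p : Fin m) (x : F) : InBlock a (Pi.single (a, p) x) :=
  fun i hi => Pi.single_eq_of_ne (fun e => hi (by rw [e])) _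

variable {M : Subgroup (GL (Fin t × Fin m) F)}

theorem OverB.inT_block (hM : OverB M) {a : Fin t} {z β : Fin t × Fin m → F} (hz : InBlock a z)
    (hβ : InBlock a β) (h : β ⬝ᵥ z = 0) : InT M z β :=
  ⟨h, hM.mono _ (tv_mem_SL z β h) (bmono_tvMat hz hβ)⟩

theorem dot_zero_of_inBlock {a : Fin t} {u β : Fin t × Fin m → F} (hβ : InBlock a β)
    (h : ∀ p, u (a, p) = 0) : β ⬝ᵥ u = 0 := by
  refine Finset.sum_eq_zero fun i _ => ?_
  by_cases hi : i.1 = a
  · obtain ⟨i1, i2⟩ := i
    simp only at hi; subst hi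
    rw [h, mul_zero]
  · rw [hβ i hi, zero_mul]

/-- Conjugating by a block transvection shifts centre and axis. -/
theorem OverB.shift (hM : OverB M) {a : Fin t} {u φ z β : Fin t × Fin m → F} (h : InT M u φ)
    (hz : InBlock a z) (hβ : InBlock a β) (hd : β ⬝ᵥ z = 0) :
    InT M (u + (β ⬝ᵥ u) • z) (φ + (-(φ ⬝ᵥ z)) • β) := by
  obtain ⟨h0, hmem⟩ := hM.inT_block hz hβ hd
  have := inT_conj hmem h
  rw [coe_tv, tvMat_mulVec] at this
  convert this using 1
  have e : (φ + (-(φ ⬝ᵥ z)) • β) ᵥ* (tv z β h0 : Matrix (Fin t × Fin m) (Fin t × Fin m) F) = φ := by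
    rw [coe_tv, tvMat, vecMul_add, vecMul_one, vecMul_vecMulVec, add_dotProduct, smul_dotProduct,
      hd, smul_zero, add_zero, add_assoc, ← add_smul, neg_add_cancel, zero_smul, add_zero]
  conv_rhs => rw [← e]
  rw [vecMul_vecMul, ← Units.val_mul, mul_inv_cancel, Units.val_one, vecMul_one]

/-- A functional on block `a` separating two independent vectors. -/
theorem exists_sep {a : Fin t} {u z : Fin t × Fin m → F}
    (h : ∃ p q, u (a, p) * z (a, q) - u (a, q) * z (a, p) ≠ 0) :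
    ∃ β, InBlock a β ∧ β ⬝ᵥ z = 0 ∧ β ⬝ᵥ u = 1 := by
  obtain ⟨p, q, hpq⟩ := h
  refine ⟨(u (a, p) * z (a, q) - u (a, q) * z (a, p))⁻¹ •
    (Pi.single (a, p) (z (a, q)) - Pi.single (a, q) (z (a, p))), fun i hi => ?_, ?_, ?_⟩
  · simp [Pi.smul_apply, inBlock_single (a := a) _ _ i hi]
  · simp only [smul_dotProduct, sub_dotProduct, single_dotProduct, smul_eq_mul]
    ring
  · simp only [smul_dotProduct, sub_dotProduct, single_dotProduct, smul_eq_mul]
    field_simp

theorem left_block (hM : OverB M) (hm : 2 ≤ m) {a : Fin t} {u φ : Fin t × Fin m → F}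
    (h : InT M u φ) (hφ : ∀ p, φ (a, p) = 0) (hu : ∃ p, u (a, p) ≠ 0)
    {z : Fin t × Fin m → F} (hz : InBlock a z) : InT M z φ := by
  have core : ∀ z, InBlock a z →
      (∃ p q, u (a, p) * z (a, q) - u (a, q) * z (a, p) ≠ 0) → InT M z φ := by
    intro z hz hsep
    obtain ⟨β, hβ, hβz, hβu⟩ := exists_sep hsep
    have h1 := hM.shift h hz hβ hβz
    rw [hβu, one_smul, dotProduct_comm φ z, dot_zero_of_inBlock hz hφ, neg_zero, zero_smul,
      add_zero] at h1
    have h2 : InT M ((-1 : F) • u) φ := inT_smul_left (by rw [neg_one_smul]; exact inT_neg h)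
    convert inT_add_left h1 h2 using 1
    rw [neg_one_smul, add_neg_cancel_comm]
  by_cases hs : ∃ p q, u (a, p) * z (a, q) - u (a, q) * z (a, p) ≠ 0
  · exact core z hz hs
  push_neg at hs
  obtain ⟨p, hp⟩ := hu
  obtain ⟨q, hq⟩ : ∃ q : Fin m, q ≠ p := Fintype.exists_ne_of_one_lt_card (by simp; omega) p
  have hw : InBlock a (Pi.single (a, q) (1 : F)) := inBlock_single q 1
  have h1 := core (z + Pi.single (a, q) 1) (fun i hi => by simp [hz i hi, hw i hi])
    ⟨p, q, by
      simp only [Pi.add_apply, Pi.single_eq_same,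
        Pi.single_eq_of_ne (show (a, p) ≠ (a, q) by simp [hq.symm])]
      intro e; exact hp (by linear_combination e - hs p q)⟩
  have h2 := core (Pi.single (a, q) (-1 : F)) (inBlock_single q _) ⟨p, q, by
    simp only [Pi.single_eq_same, Pi.single_eq_of_ne (show (a, p) ≠ (a, q) by simp [hq.symm])]
    intro e; exact hp (by linear_combination -e)⟩
  convert inT_add_left h1 h2 using 1
  rw [add_assoc, ← Pi.single_add, add_neg_cancel, Pi.single_zero, add_zero]

theorem right_block (hM : OverB M) (hm : 2 ≤ m) {b : Fin t} {u φ : Fin t × Fin m → F}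
    (h : InT M u φ) (hu : ∀ p, u (b, p) = 0) (hφ : ∃ p, φ (b, p) ≠ 0)
    {β : Fin t × Fin m → F} (hβ : InBlock b β) : InT M u β := by
  have core : ∀ β, InBlock b β →
      (∃ p q, φ (b, p) * β (b, q) - φ (b, q) * β (b, p) ≠ 0) → InT M u β := by
    intro β hβ hsep
    obtain ⟨w, hw, hwβ, hwφ⟩ := exists_sep hsep
    have h1 := hM.shift h (z := (-1 : F) • w) (fun i hi => by simp [hw i hi]) hβ
      (by rw [dotProduct_smul, dotProduct_comm, hwβ, smul_zero])
    rw [dot_zero_of_inBlock hβ hu, zero_smul, add_zero, dotProduct_smul, dotProduct_comm φ w, hwφ,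
      smul_eq_mul, mul_one, neg_neg, one_smul] at h1
    convert inT_add_right h1 (inT_neg h) using 1
    rw [add_neg_cancel_comm]
  by_cases hs : ∃ p q, φ (b, p) * β (b, q) - φ (b, q) * β (b, p) ≠ 0
  · exact core β hβ hs
  push_neg at hs
  obtain ⟨p, hp⟩ := hφ
  obtain ⟨q, hq⟩ : ∃ q : Fin m, q ≠ p := Fintype.exists_ne_of_one_lt_card (by simp; omega) p
  have hw : InBlock b (Pi.single (b, q) (1 : F)) := inBlock_single q 1
  have h1 := core (β + Pi.single (b, q) 1) (fun i hi => by simp [hβ i hi, hw i hi])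
    ⟨p, q, by
      simp only [Pi.add_apply, Pi.single_eq_same,
        Pi.single_eq_of_ne (show (b, p) ≠ (b, q) by simp [hq.symm])]
      intro e; exact hp (by linear_combination e - hs p q)⟩
  have h2 := core (Pi.single (b, q) (-1 : F)) (inBlock_single q _) ⟨p, q, by
    simp only [Pi.single_eq_same, Pi.single_eq_of_ne (show (b, p) ≠ (b, q) by simp [hq.symm])]
    intro e; exact hp (by linear_combination -e)⟩
  convert inT_add_right h1 h2 using 1
  rw [add_assoc, ← Pi.single_add, add_neg_cancel, Pi.single_zero, add_zero]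

/-- All block-to-block transvections for one pair of blocks give `SL`. -/
theorem SL_le_of_pair (hM : OverB M) (hn : 3 ≤ t * m) {a b : Fin t} (hab : a ≠ b)
    (h : ∀ z β, InBlock a z → InBlock b β → InT M z β) :
    Cfsg.Geo.specialLinear (Fin t × Fin m) F ≤ M := by
  refine SL_le_of_elementary fun i j hij c => ?_
  by_cases hblk : i.1 = j.1
  · refine hM.inT_block (a := i.1) (fun k hk => Pi.single_eq_of_ne (fun e => hk (by rw [e])) _)
      (fun k hk => Pi.single_eq_of_ne (fun e => hk (by rw [e, hblk])) _) (by simp [hij])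
  set σ₁ := Equiv.swap i.1 a with hσ₁
  set σ : Equiv.Perm (Fin t) := σ₁.trans (Equiv.swap (σ₁ j.1) b) with hσ
  have hia : σ i.1 = a := by
    rw [hσ, Equiv.trans_apply, hσ₁, Equiv.swap_apply_left, Equiv.swap_apply_of_ne_of_ne _ hab]
    exact fun e => hblk (σ₁.injective (by rw [hσ₁, Equiv.swap_apply_left]; exact e))
  have hjb : σ j.1 = b := by rw [hσ, Equiv.trans_apply, Equiv.swap_apply_left]
  set π : Equiv.Perm (Fin t × Fin m) := σ.prodCongr (Equiv.refl _) with hπ
  obtain ⟨r, hr1, hr2⟩ := exists_third (by simpa using hn) (π i) (π j)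
  have hmem : monoSL (F := F) π 1 r ∈ M := by
    refine hM.mono _ (monoSL_mem π 1 r) fun d => ⟨σ.symm d, fun k l hl hk =>
      monoSL_apply_ne π 1 fun e => hk ?_⟩
    rw [← hl, ← e]
    simp [hπ]
  have h1 : InT M (Pi.single (π i) c) (Pi.single (π j) 1) := h _ _
    (fun k hk => Pi.single_eq_of_ne (fun e => hk (by rw [e, ← hia]; simp [hπ])) _)
    (fun k hk => Pi.single_eq_of_ne (fun e => hk (by rw [e, ← hjb]; simp [hπ])) _)
  have := inT_perm hmem hr1 hr2 h1
  rwa [Equiv.symm_apply_apply, Equiv.symm_apply_apply] at this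

/-- A transvection whose centre and axis have different block supports gives `SL`. -/
theorem SL_le_of_mismatch (hM : OverB M) (hm : 2 ≤ m) (hn : 3 ≤ t * m)
    {u φ : Fin t × Fin m → F} (h : InT M u φ) (hu : u ≠ 0) (hφ : φ ≠ 0)
    (hd : ∃ a, ¬ ((∀ p, u (a, p) = 0) ↔ ∀ p, φ (a, p) = 0)) :
    Cfsg.Geo.specialLinear (Fin t × Fin m) F ≤ M := by
  obtain ⟨a, ha⟩ := hd
  by_cases hφa : ∀ p, φ (a, p) = 0
  · have hua : ∃ p, u (a, p) ≠ 0 := by
      by_contra hc; push_neg at hc; exact ha (iff_of_true hc hφa)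
    obtain ⟨⟨b, q⟩, hb⟩ := Function.ne_iff.1 hφ
    have hab : a ≠ b := fun e => hb (by rw [← e]; exact hφa q)
    exact SL_le_of_pair hM hn hab fun z β hz hβ =>
      right_block hM hm (left_block hM hm h hφa hua hz)
        (fun p => hz (b, p) (Ne.symm hab)) ⟨q, hb⟩ hβ
  · have hua : ∀ p, u (a, p) = 0 := by
      by_contra hc; exact ha (iff_of_false hc hφa)
    push_neg at hφa
    obtain ⟨⟨c, q⟩, hc⟩ := Function.ne_iff.1 hu
    have hca : c ≠ a := fun e => hc (by rw [e]; exact hua q)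
    exact SL_le_of_pair hM hn hca fun z β hz hβ =>
      left_block hM hm (right_block hM hm h hua hφa hβ)
        (fun p => hβ (c, p) hca) ⟨q, hc⟩ hz

variable [Fintype F]

/-- Two blocks of size two and `q ≥ 4`: a transvection supported on both gives one with axis in
a single block and the same centre. -/
theorem exists_axis_one_block (hM : OverB M) (hm : m = 2) (hq : 4 ≤ Fintype.card F)
    {u ηa ηc : Fin t × Fin m → F} {a c : Fin t} (hac : a ≠ c) (hall : ∀ b, b = a ∨ b = c)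
    (hηa : InBlock a ηa) (hηc : InBlock c ηc) (h : InT M u (ηa + ηc)) (hu : ∃ p, u (a, p) ≠ 0)
    (ha : ηa ≠ 0) (hc : ηc ≠ 0) (hau : ηa ⬝ᵥ u = 0) (hcu : ηc ⬝ᵥ u = 0) :
    ∃ l : F, l ≠ 0 ∧ InT M u (l • ηa) := by
  classical
  obtain ⟨⟨a', p⟩, hp⟩ := Function.ne_iff.1 ha
  obtain rfl : a' = a := by_contra fun e => hp (hηa _ e)
  obtain ⟨⟨c', r⟩, hr⟩ := Function.ne_iff.1 hc
  obtain rfl : c' = c := by_contra fun e => hr (hηc _ e)
  set wa : Fin t × Fin m → F := Pi.single (a', p) (ηa (a', p))⁻¹ with hwa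
  set wc : Fin t × Fin m → F := Pi.single (c', r) (ηc (c', r))⁻¹ with hwc
  have haw : ηa ⬝ᵥ wa = 1 := by rw [hwa, dotProduct_single]; exact mul_inv_cancel₀ hp
  have hcw : ηc ⬝ᵥ wc = 1 := by rw [hwc, dotProduct_single]; exact mul_inv_cancel₀ hr
  have hcwa : ηc ⬝ᵥ wa = 0 := by rw [hwa, dotProduct_single, hηc _ (show a' ≠ c' from hac), zero_mul]
  have hawc : ηa ⬝ᵥ wc = 0 := by
    rw [hwc, dotProduct_single, hηa _ (show c' ≠ a' from Ne.symm hac), zero_mul]
  have mv : ∀ (z η : Fin t × Fin m → F), η ⬝ᵥ u = 0 → ∀ (k s : F),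
      tvMat z (s • η) *ᵥ (k • u) = k • u := fun z η hη k s => by
    rw [tvMat_mulVec, smul_dotProduct, dotProduct_smul, hη, smul_zero, smul_zero, zero_smul,
      add_zero]
  have vm : ∀ (z η x : Fin t × Fin m → F) (s : F),
      x ᵥ* tvMat z (s • η) = x + ((x ⬝ᵥ z) * s) • η := fun z η x s => by
    rw [tvMat, vecMul_add, vecMul_one, vecMul_vecMulVec, smul_smul]
  -- a monomial element acting as a scalar on `u` moves the axis
  have move : ∀ (A : Matrix (Fin t × Fin m) (Fin t × Fin m) F) (κ : F)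
      (φ' : Fin t × Fin m → F), A.det = 1 → BMono A → A *ᵥ u = κ • u →
      φ' ᵥ* A = ηa + ηc → InT M u (κ • φ') := by
    intro A κ φ' hA hAm hAu hAφ
    set g : GL (Fin t × Fin m) F :=
      Matrix.GeneralLinearGroup.mkOfDetNeZero A (by rw [hA]; exact one_ne_zero)
    have hgM : g ∈ M :=
      hM.mono g (Units.ext (by rw [Matrix.GeneralLinearGroup.val_det_apply]; exact hA)) hAm
    have hv : (g : Matrix (Fin t × Fin m) (Fin t × Fin m) F) = A := rfl
    have h1 := inT_conj hgM h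
    have hinv : (ηa + ηc) ᵥ* ((g⁻¹ : GL (Fin t × Fin m) F) : Matrix _ _ F) = φ' := by
      rw [← hAφ, ← hv, vecMul_vecMul, ← Units.val_mul, mul_inv_cancel, Units.val_one, vecMul_one]
    rw [hinv, hv, hAu] at h1
    exact inT_smul_right h1
  by_cases h5 : ∃ κ : Fˣ, κ ^ 4 ≠ 1
  · obtain ⟨κ, hκ⟩ := h5
    obtain ⟨pu, hpu⟩ := hu
    set ua : Fin t × Fin m → F := fun i => if i.1 = a' then u i else 0 with hua
    set ξ : Fin t × Fin m → F := Pi.single (a', pu) (u (a', pu))⁻¹ with hξ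
    have hξua : ξ ⬝ᵥ ua = 1 := by
      rw [hξ, single_dotProduct, hua]; simp [inv_mul_cancel₀ hpu]
    have haua : ηa ⬝ᵥ ua = 0 := by
      rw [← hau]
      refine Finset.sum_congr rfl fun i _ => ?_
      by_cases hi : i.1 = a'
      · simp [hua, hi]
      · simp [hηa i hi]
    have hcua : ηc ⬝ᵥ ua = 0 := Finset.sum_eq_zero fun i _ => by
      by_cases hi : i.1 = a'
      · rw [hηc i (hi ▸ hac), zero_mul]
      · simp [hua, hi]
    set D : Fin t × Fin m → F := fun i => if i.1 = c' then (κ : F) else 1 with hD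
    set A := tvMat wa (((((κ ^ 3)⁻¹ : Fˣ) : F) - 1) • ηa) * tvMat ua (((κ : F) - 1) • ξ) *
      diagonal D with hA
    have hdet : A.det = 1 := by
      rw [hA]
      simp only [det_mul, det_tvMat, smul_dotProduct, haw, hξua, smul_eq_mul, mul_one,
        det_diagonal, hD, add_sub_cancel, Fintype.prod_prod_type]
      rw [Finset.prod_eq_single c' (fun b _ hb => by simp [hb]) (fun h => absurd (Finset.mem_univ _) h)]
      simp only [if_true, Finset.prod_const, Finset.card_univ, Fintype.card_fin, hm,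
        Units.val_inv_eq_inv_val, Units.val_pow_eq_pow_val]
      have := κ.ne_zero
      field_simp
    have hφ : ((κ : F) ^ 3 • ηa + ((κ⁻¹ : Fˣ) : F) • ηc) ᵥ* A = ηa + ηc := by
      rw [hA]
      simp only [← vecMul_vecMul, vm, add_dotProduct, smul_dotProduct, haua, hcua, haw, hcwa,
        smul_eq_mul, mul_one, mul_zero, zero_mul, add_zero, zero_smul]
      funext i
      rw [vecMul_diagonal]
      simp only [Pi.add_apply, Pi.smul_apply, smul_eq_mul, hD, Units.val_inv_eq_inv_val,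
        Units.val_pow_eq_pow_val]
      have := κ.ne_zero
      by_cases hi : i.1 = c'
      · rw [if_pos hi, hηa i (hi ▸ Ne.symm hac)]
        field_simp
        ring
      · rw [if_neg hi, hηc i hi]
        field_simp
        ring
    have hu' : A *ᵥ u = (κ : F) • u := by
      have e1 : diagonal D *ᵥ u = ua + (κ : F) • (u - ua) := by
        funext i
        rw [mulVec_diagonal]
        simp only [Pi.add_apply, Pi.smul_apply, Pi.sub_apply, smul_eq_mul, hua, hD]
        rcases hall i.1 with e | e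
        · rw [if_neg (e ▸ hac), if_pos e]; ring
        · rw [if_pos e, if_neg (e ▸ Ne.symm hac)]; ring
      have e2 : ξ ⬝ᵥ (u - ua) = 0 := by
        rw [hξ, single_dotProduct, Pi.sub_apply, hua]; simp
      rw [hA]
      simp only [← mulVec_mulVec]
      have e3 : tvMat ua (((κ : F) - 1) • ξ) *ᵥ (ua + (κ : F) • (u - ua)) = (κ : F) • u := by
        rw [tvMat_mulVec, smul_dotProduct, dotProduct_add, dotProduct_smul, hξua, e2,
          smul_zero, add_zero, smul_eq_mul, mul_one,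
          show ua + (κ : F) • (u - ua) + ((κ : F) - 1) • ua = (κ : F) • u by module]
      rw [e1, e3]
      exact mv _ _ hau _ _
    have h1 := inT_add_right (move A (κ : F) _ hdet (by
      rw [hA]
      refine bmono_mul (bmono_mul (bmono_tvMat (a := a') (inBlock_single p _)
        fun i hi => by simp [hηa i hi]) (bmono_tvMat (a := a') (fun i hi => by simp [hua, hi])
        fun i hi => by simp [hξ, inBlock_single (a := a') pu ((u (a', pu))⁻¹) i hi]))
        (bmono_diagonal _)) hu' hφ) (inT_neg h)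
    refine ⟨(κ : F) ^ 4 - 1, sub_ne_zero.2 fun e => hκ (Units.ext (by simpa using e)), ?_⟩
    convert h1 using 1
    have hk : (κ : F) * ((κ⁻¹ : Fˣ) : F) = 1 := κ.mul_inv
    rw [smul_add, smul_smul, smul_smul, hk]
    module
  · -- here `q = 5`
    push_neg at h5
    have hq5 : Fintype.card F = 5 := by
      obtain ⟨κ, hκ⟩ := IsCyclic.exists_generator (α := Fˣ)
      have h4 := orderOf_dvd_of_pow_eq_one (h5 κ)
      rw [orderOf_eq_card_of_forall_mem_zpowers hκ, Nat.card_eq_fintype_card,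
        Fintype.card_units] at h4
      have := Nat.le_of_dvd (by norm_num) h4
      have h45 : Fintype.card F = 4 ∨ Fintype.card F = 5 := by omega
      rcases h45 with e | e
      · rw [e] at h4; norm_num at h4
      · exact e
    have h50 : (5 : F) = 0 := by
      rw [← FiniteField.cast_card_eq_zero F, hq5]; norm_num
    have h2 : (2 : F) ≠ 0 := fun e => one_ne_zero (α := F) (by linear_combination h50 - 2 * e)
    have h3 : (3 : F) ≠ 0 := fun e => one_ne_zero (α := F) (by linear_combination 2 * e - h50)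
    have gen : ∀ δ : Fˣ, InT M u (((δ⁻¹ : Fˣ) : F) • ηa + (δ : F) • ηc) := by
      intro δ
      set A := tvMat wa (((δ : F) - 1) • ηa) * tvMat wc ((((δ⁻¹ : Fˣ) : F) - 1) • ηc) with hA
      have hdet : A.det = 1 := by
        rw [hA, det_mul, det_tvMat, det_tvMat, smul_dotProduct, smul_dotProduct, haw, hcw]
        simp
      have hu' : A *ᵥ u = (1 : F) • u := by
        rw [hA, ← mulVec_mulVec]
        conv_lhs => rw [← one_smul F u, mv _ _ hcu, mv _ _ hau]
      have := move A 1 (((δ⁻¹ : Fˣ) : F) • ηa + (δ : F) • ηc) hdet (bmono_mul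
        (bmono_tvMat (a := a') (inBlock_single p _) fun i hi => by simp [hηa i hi])
        (bmono_tvMat (a := c') (inBlock_single r _) fun i hi => by simp [hηc i hi])) hu' (by
          rw [hA]
          simp only [← vecMul_vecMul, vm, add_dotProduct, smul_dotProduct, haw, hcwa, hawc, hcw,
            smul_eq_mul, mul_one, mul_zero, zero_mul, add_zero, zero_add]
          simp only [Units.val_inv_eq_inv_val]
          have := δ.ne_zero
          match_scalars <;> field_simp <;> ring)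
      rwa [one_smul] at this
    have h1 := inT_add_right (inT_add_right h h) (gen (Units.mk0 (-2) (neg_ne_zero.2 h2)))
    refine ⟨2 + (-2)⁻¹, fun e => h3 (mul_left_cancel₀ (a := (1 : F)) one_ne_zero ?_), ?_⟩
    · field_simp at e
      linear_combination e
    · convert h1 using 1
      simp only [Units.val_inv_eq_inv_val, Units.val_mk0]
      module

/-- A transvection with centre in two blocks gives `SL`. -/
theorem SL_le_of_two_blocks (hM : OverB M) (hm : 2 ≤ m) (hn : 3 ≤ t * m)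
    (hexc : ¬ (m = 2 ∧ Fintype.card F = 2)) (ht : m = 2 → 3 ≤ t ∨ (t = 2 ∧ 4 ≤ Fintype.card F))
    {u φ : Fin t × Fin m → F} (h : InT M u φ) (hφ : φ ≠ 0) {a₁ a₂ : Fin t} (h12 : a₁ ≠ a₂)
    (h1 : ∃ p, u (a₁, p) ≠ 0) (h2 : ∃ p, u (a₂, p) ≠ 0) :
    Cfsg.Geo.specialLinear (Fin t × Fin m) F ≤ M := by
  classical
  have hu : u ≠ 0 := fun e => by obtain ⟨p, hp⟩ := h1; exact hp (by rw [e]; rfl)
  by_cases hd : ∃ a, ¬ ((∀ p, u (a, p) = 0) ↔ ∀ p, φ (a, p) = 0)
  · exact SL_le_of_mismatch hM hm hn h hu hφ hd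
  push_neg at hd
  have hsupp : ∀ a, (∃ p, u (a, p) ≠ 0) → ∃ p, φ (a, p) ≠ 0 := by
    intro a ⟨p, hp⟩
    by_contra hc; push_neg at hc; exact hp ((hd a).2 hc p)
  let res : Fin t → (Fin t × Fin m → F) → Fin t × Fin m → F :=
    fun a v i => if i.1 = a then v i else 0
  have hres : ∀ a v, InBlock a (res a v) := fun a v i hi => if_neg hi
  have hresd : ∀ a v (β : Fin t × Fin m → F), InBlock a β → β ⬝ᵥ res a v = β ⬝ᵥ v := by
    intro a v β hβ
    refine Finset.sum_congr rfl fun i _ => ?_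
    by_cases hi : i.1 = a
    · simp [res, hi]
    · simp [hβ i hi]
  by_cases hv : ∃ a, (∃ p, u (a, p) ≠ 0) ∧ ∃ v, InBlock a v ∧ φ ⬝ᵥ v = 0 ∧
      ∃ p q, u (a, p) * v (a, q) - u (a, q) * v (a, p) ≠ 0
  · obtain ⟨a, -, v, hva, hφv, p₀, q₀, hsep⟩ := hv
    obtain ⟨β, hβ, hβv, hβu⟩ := exists_sep ⟨p₀, q₀, hsep⟩
    have h3 := hM.shift h hva hβ hβv
    rw [hβu, one_smul, hφv, neg_zero, zero_smul, add_zero] at h3
    have h4 : InT M ((-1 : F) • u) φ := inT_smul_left (by rw [neg_one_smul]; exact inT_neg h)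
    have h5 : InT M v φ := by
      convert inT_add_left h3 h4 using 1
      rw [neg_one_smul, add_neg_cancel_comm]
    obtain ⟨b, hba, hb⟩ : ∃ b, b ≠ a ∧ ∃ p, φ (b, p) ≠ 0 := by
      by_cases h' : a₁ = a
      · exact ⟨a₂, h' ▸ h12.symm, hsupp a₂ h2⟩
      · exact ⟨a₁, h', hsupp a₁ h1⟩
    refine SL_le_of_mismatch hM hm hn h5 (fun e => hsep (by simp [e])) hφ ⟨b, fun hiff => ?_⟩
    obtain ⟨p, hp⟩ := hb
    exact hp (hiff.1 (fun p => hva (b, p) hba) p)
  push_neg at hv
  -- now each `φ_a (u_a) = 0` and `m = 2`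
  have hdot : ∀ a, (∃ p, u (a, p) ≠ 0) → res a φ ⬝ᵥ u = 0 := by
    intro a ha
    by_contra hne
    obtain ⟨p, hp⟩ := ha
    obtain ⟨q, hq⟩ : ∃ q : Fin m, q ≠ p := Fintype.exists_ne_of_one_lt_card (by simp; omega) p
    set κ := (res a φ ⬝ᵥ Pi.single (a, q) 1) / (res a φ ⬝ᵥ u) with hκ
    set v : Fin t × Fin m → F := Pi.single (a, q) 1 + (-κ) • res a u with hvdef
    have hvb : InBlock a v := fun i hi => by
      simp [hvdef, inBlock_single (a := a) q (1 : F) i hi, hres a u i hi]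
    have hφv : φ ⬝ᵥ v = 0 := by
      have e1 : φ ⬝ᵥ v = res a φ ⬝ᵥ v := by
        rw [dotProduct_comm φ, dotProduct_comm (res a φ), hresd a φ v hvb]
      rw [e1, hvdef, dotProduct_add, dotProduct_smul, hresd a u _ (hres a φ), smul_eq_mul, hκ]
      field_simp
      ring
    have := hv a ⟨p, hp⟩ v hvb hφv p q
    simp [hvdef, res, hq, hq.symm] at this
    exact hp (by linear_combination this)
  have hm2 : m = 2 := by
    by_contra hm'
    obtain ⟨p, hp⟩ := hsupp a₁ h1
    obtain ⟨pu, hpu⟩ := h1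
    obtain ⟨q, -, hq⟩ := Finset.exists_mem_notMem_of_card_lt_card
      (show ({p} : Finset (Fin m)).card < (Finset.univ : Finset (Fin m)).card by simp; omega)
    obtain ⟨q', -, hq'⟩ := Finset.exists_mem_notMem_of_card_lt_card
      (show ({p, q} : Finset (Fin m)).card < (Finset.univ : Finset (Fin m)).card by
        rw [Finset.card_univ, Fintype.card_fin]; exact Finset.card_le_two.trans_lt (by omega))
    simp only [Finset.mem_singleton] at hq
    simp only [Finset.mem_insert, Finset.mem_singleton, not_or] at hq'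
    have kil : ∀ r, r ≠ p → ∀ s, s ≠ r → s ≠ p → u (a₁, s) = 0 := by
      intro r hr s hsr hsp
      have := hv a₁ ⟨pu, hpu⟩ (Pi.single (a₁, r) 1 + Pi.single (a₁, p) (-(φ (a₁, r) / φ (a₁, p))))
        (fun i hi => by simp [inBlock_single (a := a₁) r (1 : F) i hi,
          inBlock_single (a := a₁) p (-(φ (a₁, r) / φ (a₁, p))) i hi])
        (by rw [dotProduct_add, dotProduct_single, dotProduct_single]; field_simp; ring) s r
      simpa [hsr, hsp, hr, hr.symm, hsr.symm] using this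
    have hq0 : u (a₁, q) = 0 := kil q' hq'.1 q (Ne.symm hq'.2) hq
    have hq'0 : u (a₁, q') = 0 := kil q hq q' hq'.2 hq'.1
    have hoth : ∀ s, s ≠ p → u (a₁, s) = 0 := by
      intro s hs
      rcases eq_or_ne s q with rfl | hsq
      · exact hq0
      · exact kil q hq s hsq hs
    have hd0 := hdot a₁ ⟨pu, hpu⟩
    rw [dotProduct, Finset.sum_eq_single (a₁, p)] at hd0
    · simp [res, hp] at hd0
      rcases eq_or_ne pu p with rfl | hne
      · exact hpu hd0
      · exact hpu (hoth pu hne)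
    · rintro ⟨b, s⟩ - hbs
      by_cases hb : b = a₁
      · subst hb
        rw [hoth s (fun e => hbs (by rw [e])), mul_zero]
      · rw [hres a₁ φ (b, s) hb, zero_mul]
    · intro h'; exact absurd (Finset.mem_univ _) h'
  have hq3 : 3 ≤ Fintype.card F := by
    have : 1 < Fintype.card F := Fintype.one_lt_card
    by_contra hc; exact hexc ⟨hm2, by omega⟩
  obtain ⟨δ, hδ⟩ := exists_unit_ne_one hq3
  obtain ⟨p, hp⟩ := hsupp a₁ h1
  rcases ht hm2 with ht | ⟨ht, hq4⟩
  swap
  · subst ht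
    have hall : ∀ b, b = a₁ ∨ b = a₂ := fun b => by omega
    obtain ⟨p₂, hp₂⟩ := hsupp a₂ h2
    have hsplit : φ = res a₁ φ + res a₂ φ := by
      funext i
      rcases hall i.1 with e | e <;> simp [res, e, h12, h12.symm]
    obtain ⟨l, hl, h7⟩ := exists_axis_one_block hM hm2 hq4 h12 hall (hres a₁ φ) (hres a₂ φ)
      (hsplit ▸ h) h1 (fun e => hp (by simpa [res] using congrFun e (a₁, p)))
      (fun e => hp₂ (by simpa [res] using congrFun e (a₂, p₂))) (hdot a₁ h1) (hdot a₂ h2)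
    refine SL_le_of_mismatch hM hm hn h7 hu
      (fun e => hp (by simpa [res, hl] using congrFun e (a₁, p))) ⟨a₂, fun hiff => ?_⟩
    obtain ⟨r, hr⟩ := h2
    exact hr (hiff.2 (fun s => by simp [res, h12.symm]) r)
  -- an auxiliary block `c`, and a block `b` meeting the support outside `a₁, c`
  obtain ⟨c, hca, b, hba, hbc, hbu⟩ : ∃ c, c ≠ a₁ ∧ ∃ b, b ≠ a₁ ∧ b ≠ c ∧ ∃ p, u (b, p) ≠ 0 := by
    obtain ⟨c, hc⟩ := exists_third (ι := Fin t) (by simpa using ht) a₁ a₂
    exact ⟨c, hc.1.symm, a₂, h12.symm, hc.2, h2⟩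
  -- rank-one elements in the two blocks
  obtain ⟨ηc, wc, hηc, hwc, hηu, hηw, hφc, hφw⟩ : ∃ ηc wc : Fin t × Fin m → F, InBlock c ηc ∧
      InBlock c wc ∧ ηc ⬝ᵥ u = 0 ∧ ηc ⬝ᵥ wc = 1 ∧ (∃ s : F, res c φ = s • ηc) ∧
      (φ ⬝ᵥ wc) • ηc = res c φ := by
    by_cases hc' : ∃ p, u (c, p) ≠ 0
    · obtain ⟨r, hr⟩ := hsupp c hc'
      refine ⟨res c φ, Pi.single (c, r) (φ (c, r))⁻¹, hres c φ, inBlock_single r _, hdot c hc',
        ?_, ⟨1, (one_smul _ _).symm⟩, ?_⟩
      · simp [res, hr]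
      · simp [hr]
    · push_neg at hc'
      have hφ0 : ∀ r, φ (c, r) = 0 := (hd c).1 hc'
      have e0 : res c φ = 0 := funext fun i => by
        by_cases hi : i.1 = c
        · obtain ⟨i1, i2⟩ := i; simp only at hi; subst hi; simp [res, hφ0]
        · simp [res, hi]
      refine ⟨Pi.single (c, p) 1, Pi.single (c, p) 1, inBlock_single p _, inBlock_single p _,
        by simp [hc'], by simp, ⟨0, by rw [e0, zero_smul]⟩, by simp [hφ0, e0]⟩
  set ηa := res a₁ φ with hηa
  set wa : Fin t × Fin m → F := Pi.single (a₁, p) (φ (a₁, p))⁻¹ with hwa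
  have hηwa : ηa ⬝ᵥ wa = 1 := by simp [hηa, hwa, res, hp]
  have hφwa : φ ⬝ᵥ wa = 1 := by simp [hwa, hp]
  have hca0 : ∀ {x y : Fin t × Fin m → F}, InBlock c x → InBlock a₁ y → x ⬝ᵥ y = 0 := by
    intro x y hx hy
    exact dot_zero_of_inBlock hx fun p => hy (c, p) hca
  set A : Matrix (Fin t × Fin m) (Fin t × Fin m) F := tvMat wa (((δ : F) - 1) • ηa) with hA
  set C : Matrix (Fin t × Fin m) (Fin t × Fin m) F :=
    tvMat wc ((((δ⁻¹ : Fˣ) : F) - 1) • ηc) with hC
  have hdet : (A * C).det = 1 := by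
    rw [det_mul, hA, hC, det_tvMat, det_tvMat, smul_dotProduct, smul_dotProduct, hηwa, hηw]
    simp
  set g : GL (Fin t × Fin m) F :=
    Matrix.GeneralLinearGroup.mkOfDetNeZero (A * C) (by rw [hdet]; exact one_ne_zero) with hg
  have hgM : g ∈ M := by
    refine hM.mono g (Units.ext (by rw [Matrix.GeneralLinearGroup.val_det_apply]; exact hdet)) ?_
    exact bmono_mul
      (bmono_tvMat (a := a₁) (inBlock_single p _)
        fun i hi => by simp [hηa, hres a₁ φ i hi])
      (bmono_tvMat hwc fun i hi => by simp [hηc i hi])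
  have h6 := inT_conj hgM h
  have hgu : (g : Matrix (Fin t × Fin m) (Fin t × Fin m) F) *ᵥ u = u := by
    show (A * C) *ᵥ u = u
    have e1 : C *ᵥ u = u := by
      rw [hC, tvMat_mulVec, smul_dotProduct, hηu, smul_zero, zero_smul, add_zero]
    have e2 : A *ᵥ u = u := by
      rw [hA, tvMat_mulVec, smul_dotProduct, hdot a₁ h1, smul_zero, zero_smul, add_zero]
    rw [← mulVec_mulVec, e1, e2]
  set φ' : Fin t × Fin m → F :=
    φ + (((δ⁻¹ : Fˣ) : F) - 1) • ηa + ((δ : F) - 1) • res c φ with hφ'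
  have hwac : ∀ {y : Fin t × Fin m → F}, InBlock a₁ y → y ⬝ᵥ wc = 0 := by
    intro y hy; rw [dotProduct_comm]; exact hca0 hwc hy
  have hgφ : φ' ᵥ* (g : Matrix (Fin t × Fin m) (Fin t × Fin m) F) = φ := by
    show φ' ᵥ* (A * C) = φ
    obtain ⟨s, hs⟩ := hφc
    have hsw : φ ⬝ᵥ wc * 1 = s := by
      have := congrArg (fun v => v ⬝ᵥ wc) (hφw.trans hs)
      simp only [smul_dotProduct, hηw, smul_eq_mul, mul_one] at this
      simpa using this
    rw [mul_one] at hsw
    rw [← vecMul_vecMul, hA, tvMat, vecMul_add, vecMul_one, vecMul_vecMulVec, hC, tvMat,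
      vecMul_add, vecMul_one, vecMul_vecMulVec, hφ', hs]
    simp only [add_dotProduct, smul_dotProduct, hηwa, hφwa, hηw,
      hca0 hηc (inBlock_single (a := a₁) p _ : InBlock a₁ wa), hwac (hres a₁ φ), ← hηa, hsw,
      smul_eq_mul, mul_zero, mul_one, add_zero]
    funext i
    simp only [Pi.add_apply, Pi.smul_apply, smul_eq_mul, Units.val_inv_eq_inv_val]
    rw [show ηa ⬝ᵥ wc = 0 from hwac (hres a₁ φ),
      show ηc ⬝ᵥ wa = 0 from hca0 hηc (inBlock_single p _)]
    field_simp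
    ring
  have hinv : φ ᵥ* ((g⁻¹ : GL (Fin t × Fin m) F) : Matrix _ _ F) = φ' := by
    conv_lhs => rw [← hgφ]
    rw [vecMul_vecMul, ← Units.val_mul, mul_inv_cancel, Units.val_one, vecMul_one]
  rw [hgu, hinv] at h6
  set ψ : Fin t × Fin m → F := φ' + -φ with hψ
  have h7 : InT M u ψ := inT_add_right h6 (inT_neg h)
  refine SL_le_of_mismatch hM hm hn h7 hu (fun e => ?_) ⟨b, fun hiff => ?_⟩
  · have := congrFun e (a₁, p)
    simp [hψ, hφ', hηa, res, Ne.symm hca, hp] at this
    exact hδ (by simpa [sub_eq_zero] using this)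
  · obtain ⟨r, hr⟩ := hbu
    refine hr (hiff.2 (fun s => ?_) r)
    simp [hψ, hφ', hηa, res, hba, hbc]

/-- The main step for blocks of size at least two. -/
theorem SL_le_of_overB (hM : OverB M) (hm : 2 ≤ m) (hn : 3 ≤ t * m)
    (hexc : ¬ (m = 2 ∧ Fintype.card F = 2)) (ht : m = 2 → 3 ≤ t ∨ (t = 2 ∧ 4 ≤ Fintype.card F)) {g : GL (Fin t × Fin m) F}
    (hg : g ∈ M) (hg' : ¬ BMono (g : Matrix (Fin t × Fin m) (Fin t × Fin m) F)) :
    Cfsg.Geo.specialLinear (Fin t × Fin m) F ≤ M := by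
  classical
  set A := (g : Matrix (Fin t × Fin m) (Fin t × Fin m) F) with hA
  rw [BMono] at hg'
  push_neg at hg'
  obtain ⟨b, hb⟩ := hg'
  obtain ⟨z, β, hz, hβ, hd, hβ0, a₁, a₂, h12, h1, h2⟩ : ∃ z β, InBlock b z ∧ InBlock b β ∧
      β ⬝ᵥ z = 0 ∧ β ≠ 0 ∧ ∃ a₁ a₂, a₁ ≠ a₂ ∧ (∃ p, (A *ᵥ z) (a₁, p) ≠ 0) ∧
        ∃ p, (A *ᵥ z) (a₂, p) ≠ 0 := by
    obtain ⟨⟨i1, i2⟩, ⟨j1, q⟩, hj, -, hij⟩ := hb b
    simp only at hj; subst hj
    obtain ⟨⟨k1, k2⟩, ⟨l1, q'⟩, hl, hk, hkl⟩ := hb i1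
    simp only at hl hk; subst hl
    obtain ⟨r, hr⟩ : ∃ r : Fin m, r ≠ q := Fintype.exists_ne_of_one_lt_card (by simp; omega) q
    by_cases h1 : ∃ p, A (k1, p) (l1, q) ≠ 0
    · refine ⟨Pi.single (l1, q) 1, Pi.single (l1, r) 1, inBlock_single q _, inBlock_single r _,
        by simp [hr], by simp, i1, k1, Ne.symm hk, ⟨i2, by simpa⟩, ?_⟩
      obtain ⟨p, hp⟩ := h1; exact ⟨p, by simpa⟩
    push_neg at h1
    by_cases h2 : ∃ p, A (i1, p) (l1, q') ≠ 0
    · obtain ⟨r', hr'⟩ : ∃ r : Fin m, r ≠ q' :=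
        Fintype.exists_ne_of_one_lt_card (by simp; omega) q'
      refine ⟨Pi.single (l1, q') 1, Pi.single (l1, r') 1, inBlock_single q' _, inBlock_single r' _,
        by simp [hr'], by simp, i1, k1, Ne.symm hk, ?_, ⟨k2, by simpa⟩⟩
      obtain ⟨p, hp⟩ := h2; exact ⟨p, by simpa⟩
    push_neg at h2
    have hqq : q ≠ q' := fun e => hij (e ▸ h2 i2)
    refine ⟨Pi.single (l1, q) 1 + Pi.single (l1, q') 1,
      Pi.single (l1, q) 1 - Pi.single (l1, q') 1, fun i hi => ?_, fun i hi => ?_, ?_, ?_, i1, k1,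
      Ne.symm hk, ⟨i2, by simpa [mulVec_add, h2 i2] using hij⟩,
      ⟨k2, by simpa [mulVec_add, h1 k2] using hkl⟩⟩
    · simp [inBlock_single (a := l1) _ _ i hi]
    · simp [inBlock_single (a := l1) _ _ i hi]
    · simp [dotProduct_add, hqq, hqq.symm]
    · intro e; have := congrFun e (l1, q); simp [hqq] at this
  have h3 := inT_conj hg (hM.inT_block hz hβ hd)
  refine SL_le_of_two_blocks hM hm hn hexc ht h3 (fun e => hβ0 ?_) h12 h1 h2
  have := congrArg (fun v => v ᵥ* (g : Matrix (Fin t × Fin m) (Fin t × Fin m) F)) e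
  simpa [vecMul_vecMul, ← Units.val_mul] using this

end Cfsg.Lib.Linear.MonoMax
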