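import Cfsg.Agent.Lib.Linear.MonoMax.SLBase

/-!
# From one kind of elementary transvection to the special linear group
-/

set_option autoImplicit false

namespace Cfsg.Lib.Linear.MonoMax

open Matrix Module
open Cfsg.Lib.Linear.TVec

variable {ι : Type} [Fintype ι] [DecidableEq ι] {F : Type*} [Field F] {M : Subgroup (GL ι F)}

/-- A group with all elementary transvections contains `SL`. -/
theorem SL_le_of_elementary
    (h : ∀ i j, i ≠ j → ∀ c : F, InT M (Pi.single i c) (Pi.single j 1)) :
    Cfsg.Geo.specialLinear ι F ≤ M := by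
  rw [Cfsg.Geo.specialLinear, ← range_toGL, MonoidHom.range_eq_map,
    ← closure_transvection_eq_top, MonoidHom.map_closure, Subgroup.closure_le]
  rintro _ ⟨_, ⟨i, j, hij, c, rfl⟩, rfl⟩
  obtain ⟨h0, h1⟩ := h i j hij c
  have he : Matrix.SpecialLinearGroup.toGL (Matrix.SpecialLinearGroup.transvection hij c) =
      tv (Pi.single i c) (Pi.single j 1) h0 := by
    apply Units.ext
    rw [coe_tv, tvMat]
    show Matrix.transvection i j c = _
    rw [Matrix.transvection]
    congr 1
    ext x y
    simp [vecMulVec_apply, Matrix.single_apply, Pi.single_apply, eq_comm]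
    split_ifs <;> simp_all
  rw [he]
  exact h1

/-- Moving an elementary transvection by a permutation lying in `M`. -/
theorem inT_perm {σ : Equiv.Perm ι} {r a b : ι} {x : F}
    (hg : monoSL (F := F) σ 1 r ∈ M) (hra : a ≠ r) (hrb : b ≠ r)
    (h : InT M (Pi.single a x) (Pi.single b 1)) :
    InT M (Pi.single (σ.symm a) x) (Pi.single (σ.symm b) 1) := by
  have := inT_conj hg h
  rw [monoSL, Units.val_mul, ← mulVec_mulVec, pm_mulVec, _root_.mul_inv_rev, Units.val_mul,
    ← vecMul_vecMul, dg_mulVec, vecMul_dg_inv, vecMul_pm_inv] at this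
  convert this using 1 <;> funext i
  · rcases eq_or_ne i (σ.symm a) with rfl | hi
    · simp [hra]
    · have : σ i ≠ a := fun e => hi (by simp [← e])
      simp [hi, this]
  · rcases eq_or_ne i (σ.symm b) with rfl | hi
    · simp [hrb]
    · have : σ i ≠ b := fun e => hi (by simp [← e])
      simp [hi, this]

theorem exists_third (hn : 3 ≤ Fintype.card ι) (a b : ι) : ∃ r, a ≠ r ∧ b ≠ r := by
  obtain ⟨r, -, hr⟩ := Finset.exists_mem_notMem_of_card_lt_card
    (show ({a, b} : Finset ι).card < (Finset.univ : Finset ι).card by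
      rw [Finset.card_univ]; exact Finset.card_le_two.trans_lt hn)
  simp only [Finset.mem_insert, Finset.mem_singleton, not_or] at hr
  exact ⟨r, Ne.symm hr.1, Ne.symm hr.2⟩

theorem SL_le_of_el (hM : Over M) (hn : 3 ≤ Fintype.card ι) (h : El M) :
    Cfsg.Geo.specialLinear ι F ≤ M := by
  obtain ⟨a, b, hab, x, hx, hT⟩ := h
  refine SL_le_of_elementary fun i j hij c => ?_
  obtain ⟨r, har, hbr⟩ := exists_third hn a b
  rcases eq_or_ne c 0 with rfl | hc
  · rw [Pi.single_zero]; exact inT_zero_left _
  have h1 := inT_conj (hM.dg_mem (prod_tau a r (Units.mk0 (c / x) (div_ne_zero hc hx)))) hT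
  rw [dg_mulVec, vecMul_dg_inv] at h1
  have h2 : InT M (Pi.single a c) (Pi.single b 1) := by
    convert h1 using 1 <;> funext k
    · rcases eq_or_ne k a with rfl | hk
      · simp [tau_left har, hx]
      · simp [hk]
    · rcases eq_or_ne k b with rfl | hk
      · simp [tau_off hab.symm hbr]
      · simp [hk]
  -- a permutation taking `(i, j)` to `(a, b)`
  set σ₁ := Equiv.swap i a with hσ₁
  set σ : Equiv.Perm ι := σ₁.trans (Equiv.swap (σ₁ j) b) with hσ
  have hia : σ i = a := by
    rw [hσ, Equiv.trans_apply, hσ₁, Equiv.swap_apply_left, Equiv.swap_apply_of_ne_of_ne _ hab]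
    exact fun e => hij (σ₁.injective (by rw [hσ₁, Equiv.swap_apply_left]; exact e))
  have hjb : σ j = b := by rw [hσ, Equiv.trans_apply, Equiv.swap_apply_left]
  have := inT_perm (hM.mono _ (monoSL_mem σ 1 r) (mono_monoSL σ 1 r)) har hbr h2
  rwa [← hia, ← hjb, Equiv.symm_apply_apply, Equiv.symm_apply_apply] at this

end Cfsg.Lib.Linear.MonoMax
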