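import Mathlib

/-!
# Two weighted sums over non-zero weights

Given coefficients `p` with at least three non-zero values over a field with at least five
elements, there are non-zero weights `e` with `∑ p e = 0` and `∑ p / e ≠ 0`.
-/

set_option autoImplicit false

namespace Cfsg.Lib.Linear.MonoMax

variable {ι : Type} [Fintype ι] [DecidableEq ι] {F : Type*} [Field F] [Fintype F]

/-- An element of `F` avoiding any set with fewer elements than `F`. -/
theorem exists_avoid (s : Finset F) (h : s.card < Fintype.card F) : ∃ x, x ∉ s := by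
  obtain ⟨x, -, hx⟩ := Finset.exists_mem_notMem_of_card_lt_card
    (show s.card < (Finset.univ : Finset F).card by rwa [Finset.card_univ])
  exact ⟨x, hx⟩

theorem exists_unit_avoid (s : Finset F) (h : s.card + 1 < Fintype.card F) :
    ∃ x : Fˣ, (x : F) ∉ s := by
  classical
  obtain ⟨x, hx⟩ := exists_avoid (insert 0 s) ((Finset.card_insert_le _ _).trans_lt h)
  rw [Finset.mem_insert, not_or] at hx
  exact ⟨Units.mk0 x hx.1, hx.2⟩

theorem exists_weights (hq : 5 ≤ Fintype.card F) (p : ι → F) {a b c : ι} (hab : a ≠ b)
    (hac : a ≠ c) (hbc : b ≠ c) (ha : p a ≠ 0) (hb : p b ≠ 0) (hc : p c ≠ 0) :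
    ∃ e : ι → Fˣ, ∑ i, p i * (e i : F) = 0 ∧ ∑ i, p i * ((e i)⁻¹ : Fˣ) ≠ 0 := by
  classical
  set S0 : F := ∑ i ∈ (((Finset.univ : Finset ι).erase a).erase b).erase c, p i with hS0
  -- sum split
  have split : ∀ g : ι → F, ∑ i, g i =
      g a + (g b + (g c + ∑ i ∈ (((Finset.univ : Finset ι).erase a).erase b).erase c, g i)) := by
    intro g
    rw [← Finset.add_sum_erase _ g (Finset.mem_univ a),
      ← Finset.add_sum_erase _ g (show b ∈ (Finset.univ : Finset ι).erase a by simp [hab.symm]),
      ← Finset.add_sum_erase _ g (show c ∈ ((Finset.univ : Finset ι).erase a).erase b by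
        simp [hac.symm, hbc.symm])]
  obtain ⟨x, hx⟩ := exists_unit_avoid {-S0 / p c} (by simp; omega)
  simp only [Finset.mem_singleton] at hx
  set T : F := S0 + p c * x with hT
  have hT0 : T ≠ 0 := by
    intro e
    apply hx
    rw [eq_div_iff hc]
    linear_combination e
  set T' : F := S0 + p c * (x⁻¹ : Fˣ) with hT'
  let P : Polynomial F := Polynomial.C (p a ^ 2) * Polynomial.X -
    (Polynomial.C (p b) + Polynomial.C T' * Polynomial.X) *
      (Polynomial.C T + Polynomial.C (p b) * Polynomial.X)
  have hP0 : P ≠ 0 := by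
    intro e
    have : P.eval 0 = 0 := by rw [e, Polynomial.eval_zero]
    simp [P, hb, hT0] at this
  have hdeg : P.natDegree ≤ 2 := by
    simp only [P]
    compute_degree
  obtain ⟨y, hy⟩ := exists_unit_avoid (insert (-T / p b) P.roots.toFinset) (by
    have h1 := P.roots.toFinset_card_le
    have h2 := P.card_roots'
    have h3 := Finset.card_insert_le (-T / p b) P.roots.toFinset
    omega)
  simp only [Finset.mem_insert, Multiset.mem_toFinset, Polynomial.mem_roots hP0, not_or,
    Polynomial.IsRoot.def] at hy
  have hz : -(T + p b * y) / p a ≠ 0 := by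
    refine div_ne_zero (neg_ne_zero.2 fun e => hy.1 ?_) ha
    rw [eq_div_iff hb]
    linear_combination e
  let e : ι → Fˣ := fun i =>
    if i = a then Units.mk0 _ hz else if i = b then y else if i = c then x else 1
  have hrest : ∀ i ∈ (((Finset.univ : Finset ι).erase a).erase b).erase c, e i = 1 := by
    intro i hi
    simp only [Finset.mem_erase] at hi
    simp [e, hi.1, hi.2.1, hi.2.2.1]
  have hea : e a = Units.mk0 _ hz := if_pos rfl
  have heb : e b = y := by simp [e, hab.symm]
  have hec : e c = x := by simp [e, hac.symm, hbc.symm]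
  refine ⟨e, ?_, ?_⟩
  · rw [split, hea, heb, hec, Finset.sum_congr rfl fun i hi => by
      rw [hrest i hi, Units.val_one, mul_one], ← hS0, Units.val_mk0]
    field_simp
    linear_combination (-1 : F) * hT
  · rw [split, hea, heb, hec, Finset.sum_congr rfl fun i hi => by
      rw [hrest i hi, inv_one, Units.val_one, mul_one], ← hS0, Units.val_inv_eq_inv_val,
      Units.val_mk0, Units.val_inv_eq_inv_val]
    intro h0
    apply hy.2
    simp only [P, Polynomial.eval_sub, Polynomial.eval_mul, Polynomial.eval_add,
      Polynomial.eval_C, Polynomial.eval_X]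
    have hy0 := y.ne_zero
    have hw : T + p b * y ≠ 0 := fun e' => hz (by rw [e']; simp)
    have h1 : p a * (-(T + p b * y) / p a)⁻¹ + p b * (y : F)⁻¹ + T' = 0 := by
      rw [hT']; linear_combination h0
    field_simp at h1
    linear_combination (-1 : F) * h1

end Cfsg.Lib.Linear.MonoMax
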