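import Cfsg.Agent.Lib.Linear.MonoMax.Basic
import Cfsg.Agent.Lib.Linear.MonoMax.Solve

/-!
# Groups containing all monomial matrices

A subgroup of `GL` over a field with at least five elements that contains all monomial matrices
and one more element contains an elementary transvection.
-/

set_option autoImplicit false

namespace Cfsg.Lib.Linear.MonoMax

open Matrix Module
open Cfsg.Lib.Linear.TVec

variable {ι : Type} [Fintype ι] [DecidableEq ι] {F : Type*} [Field F] [Fintype F]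
  {X : Subgroup (GL ι F)}

/-- The element `1 + c ⊗ r` lies in `X`. -/
def InR (X : Subgroup (GL ι F)) (c r : ι → F) : Prop :=
  ∃ g ∈ X, (g : Matrix ι ι F) = 1 + vecMulVec c r

/-- Some elementary transvection lies in `X`. -/
def El (X : Subgroup (GL ι F)) : Prop :=
  ∃ a b, a ≠ b ∧ ∃ x : F, x ≠ 0 ∧ InT X (Pi.single a x) (Pi.single b 1)

omit [Fintype F] in
theorem inR_of_inT {z a : ι → F} (h : InT X z a) : InR X z a :=
  ⟨_, h.2, rfl⟩

omit [Fintype F] in
theorem inR_conj {g : GL ι F} (hg : g ∈ X) {c r : ι → F} (h : InR X c r) :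
    InR X ((g : Matrix ι ι F) *ᵥ c) (r ᵥ* ((g⁻¹ : GL ι F) : Matrix ι ι F)) := by
  obtain ⟨y, hy, e⟩ := h
  refine ⟨g * y * g⁻¹, X.mul_mem (X.mul_mem hg hy) (X.inv_mem hg), ?_⟩
  rw [Units.val_mul, Units.val_mul, e, mul_add, add_mul, mul_one, ← Units.val_mul g g⁻¹,
    mul_inv_cancel, Units.val_one, mul_vecMulVec, vecMulVec_mul]

omit [Fintype F] in
theorem inR_mulVec {c r : ι → F} {g : GL ι F} (e : (g : Matrix ι ι F) = 1 + vecMulVec c r)
    (v : ι → F) : (g : Matrix ι ι F) *ᵥ v = v + (r ⬝ᵥ v) • c := by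
  rw [e]; exact tvMat_mulVec c r v

omit [Fintype F] in
theorem inR_vecMul {c r : ι → F} {g : GL ι F} (e : (g : Matrix ι ι F) = 1 + vecMulVec c r)
    (v : ι → F) : v ᵥ* (g : Matrix ι ι F) = v + (v ⬝ᵥ c) • r := by
  rw [e, vecMul_add, vecMul_one, vecMul_vecMulVec]

omit [Fintype F] in
theorem inR_one_add_ne_zero {c r : ι → F} (h : InR X c r) : 1 + r ⬝ᵥ c ≠ 0 := by
  obtain ⟨g, -, e⟩ := h
  rw [← det_tvMat, tvMat, ← e]
  exact ((Matrix.isUnit_iff_isUnit_det _).1 g.isUnit).ne_zero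

omit [Fintype F] in
theorem inT_of_axes {c r r' : ι → F} (h : InR X c r) (h' : InR X c r')
    (hd : (r' - r) ⬝ᵥ c = 0) : InT X c (r' - r) := by
  obtain ⟨g, hg, e⟩ := h
  obtain ⟨g', hg', e'⟩ := h'
  refine ⟨hd, ?_⟩
  convert X.mul_mem hg' (X.inv_mem hg)
  refine eq_mul_inv_of_mul_eq (Units.ext ?_)
  rw [Units.val_mul, coe_tv, tvMat, e, e', add_mul, one_mul, mul_add, mul_one,
    vecMulVec_mul_vecMulVec, hd, zero_smul, vecMulVec_zero, add_zero, sub_eq_add_neg r' r,
    vecMulVec_add, vecMulVec_neg]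
  abel

omit [Fintype F] in
theorem inT_of_centres {c c' r : ι → F} (h : InR X c r) (h' : InR X c' r)
    (hd : r ⬝ᵥ (c' - c) = 0) : InT X ((1 + r ⬝ᵥ c)⁻¹ • (c' - c)) r := by
  have hne := inR_one_add_ne_zero h
  obtain ⟨g, hg, e⟩ := h
  obtain ⟨g', hg', e'⟩ := h'
  refine ⟨by rw [dotProduct_smul, hd, smul_zero], ?_⟩
  convert X.mul_mem hg' (X.inv_mem hg)
  refine eq_mul_inv_of_mul_eq (Units.ext ?_)
  rw [Units.val_mul, coe_tv, tvMat, e, e']
  ext i j
  rw [add_mul, one_mul, mul_add, mul_one, vecMulVec_mul_vecMulVec]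
  simp only [Matrix.add_apply, vecMulVec_apply, Pi.smul_apply, Pi.sub_apply, smul_eq_mul]
  field_simp
  ring

/-- A unit other than `1`. -/
theorem exists_unit_ne_one (hq : 3 ≤ Fintype.card F) : ∃ ν : Fˣ, (ν : F) ≠ 1 := by
  obtain ⟨ν, hν⟩ := exists_unit_avoid ({1} : Finset F) (by simp; omega)
  exact ⟨ν, by simpa using hν⟩

theorem el_of_mismatch (hq : 3 ≤ Fintype.card F)
    (hdg : ∀ d : ι → Fˣ, dg d ∈ X) {c r : ι → F} (h : InR X c r) (hc : c ≠ 0) (hr : r ≠ 0)
    {k : ι} (hk : ¬ (c k = 0 ↔ r k = 0)) : El X := by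
  obtain ⟨ν, hν⟩ := exists_unit_ne_one hq
  have hν' : ((ν⁻¹ : Fˣ) : F) - 1 ≠ 0 := sub_ne_zero.2 fun e => hν (by
    have : ν⁻¹ = 1 := Units.ext e
    simp [inv_eq_one.1 this])
  have hν1 : (ν : F) - 1 ≠ 0 := sub_ne_zero.2 hν
  by_cases hck : c k = 0
  · have hrk : r k ≠ 0 := fun e => hk ⟨fun _ => e, fun _ => hck⟩
    have h1 := inR_conj (hdg (Function.update 1 k ν)) h
    rw [dg_mulVec, vecMul_dg_inv,
      show (fun i => ((Function.update 1 k ν : ι → Fˣ) i : F) * c i) = c from funext fun i => by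
        rcases eq_or_ne i k with rfl | hi <;> simp [*]] at h1
    have hd : ((fun i => r i * (((Function.update 1 k ν : ι → Fˣ) i)⁻¹ : Fˣ)) - r : ι → F) =
        Pi.single k ((((ν⁻¹ : Fˣ) : F) - 1) * r k) := by
      funext i
      rcases eq_or_ne i k with rfl | hi
      · simp only [Pi.sub_apply, Function.update_self, Pi.single_eq_same]; ring
      · simp [hi]
    have h2 := inT_of_axes h h1 (by rw [hd, single_dotProduct, hck, mul_zero])
    rw [hd] at h2
    obtain ⟨a, hca⟩ := Function.ne_iff.1 hc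
    have hak : a ≠ k := fun e => hca (e ▸ hck)
    have h3 := inT_conj (hdg (Function.update 1 a ν)) h2
    rw [dg_mulVec, vecMul_dg_inv] at h3
    set s : F := (((ν⁻¹ : Fˣ) : F) - 1) * r k with hs
    have hs0 : s ≠ 0 := mul_ne_zero hν' hrk
    rw [show (fun i => (Pi.single k s : ι → F) i * (((Function.update 1 a ν : ι → Fˣ) i)⁻¹ : Fˣ)) =
        Pi.single k s from funext fun i => by
      rcases eq_or_ne i k with rfl | hi
      · simp [hak.symm]
      · simp [hi]] at h3
    have h4 : InT X ((-1 : F) • c) (Pi.single k s) :=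
      inT_smul_left (by rw [neg_one_smul]; exact inT_neg h2)
    have h5 := inT_add_left h3 h4
    rw [show ((fun i => ((Function.update 1 a ν : ι → Fˣ) i : F) * c i) + (-1 : F) • c) =
        Pi.single a (((ν : F) - 1) * c a) from funext fun i => by
      rcases eq_or_ne i a with rfl | hi
      · simp only [Pi.add_apply, Pi.smul_apply, Function.update_self, smul_eq_mul,
          Pi.single_eq_same]; ring
      · simp [hi], show (Pi.single k s : ι → F) = s • Pi.single k 1 from by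
        rw [← Pi.single_smul, smul_eq_mul, mul_one]] at h5
    have h6 := inT_smul_left h5
    rw [← Pi.single_smul, smul_eq_mul] at h6
    exact ⟨a, k, hak, _, mul_ne_zero hs0 (mul_ne_zero hν1 hca), h6⟩
  · have hrk : r k = 0 := by_contra fun e => hk (iff_of_false hck e)
    have h1 := inR_conj (hdg (Function.update 1 k ν)) h
    rw [dg_mulVec, vecMul_dg_inv,
      show (fun i => r i * (((Function.update 1 k ν : ι → Fˣ) i)⁻¹ : Fˣ)) = r from funext fun i => by
        rcases eq_or_ne i k with rfl | hi <;> simp [*]] at h1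
    have hd : ((fun i => ((Function.update 1 k ν : ι → Fˣ) i : F) * c i) - c : ι → F) =
        Pi.single k (((ν : F) - 1) * c k) := by
      funext i
      rcases eq_or_ne i k with rfl | hi
      · simp only [Pi.sub_apply, Function.update_self, Pi.single_eq_same]; ring
      · simp [hi]
    have h2 := inT_of_centres h h1 (by rw [hd, dotProduct_single, hrk, zero_mul])
    rw [hd, ← Pi.single_smul, smul_eq_mul] at h2
    set s : F := (1 + r ⬝ᵥ c)⁻¹ * (((ν : F) - 1) * c k) with hs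
    have hs0 : s ≠ 0 := mul_ne_zero (inv_ne_zero (inR_one_add_ne_zero h)) (mul_ne_zero hν1 hck)
    obtain ⟨b, hrb⟩ := Function.ne_iff.1 hr
    have hbk : b ≠ k := fun e => hrb (e ▸ hrk)
    have h3 := inT_conj (hdg (Function.update 1 b ν)) h2
    rw [dg_mulVec, vecMul_dg_inv,
      show (fun i => ((Function.update 1 b ν : ι → Fˣ) i : F) * (Pi.single k s : ι → F) i) =
        Pi.single k s from funext fun i => by
      rcases eq_or_ne i k with rfl | hi
      · simp [hbk.symm]
      · simp [hi]] at h3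
    have h5 := inT_add_right h3 (inT_neg h2)
    rw [show ((fun i => r i * (((Function.update 1 b ν : ι → Fˣ) i)⁻¹ : Fˣ)) + -r : ι → F) =
        ((((ν⁻¹ : Fˣ) : F) - 1) * r b) • Pi.single b 1 from funext fun i => by
      rcases eq_or_ne i b with rfl | hi
      · simp only [Pi.add_apply, Pi.neg_apply, Pi.smul_apply, Function.update_self, smul_eq_mul,
          Pi.single_eq_same]; ring
      · simp [hi]] at h5
    have h6 := inT_smul_left h5
    rw [← Pi.single_smul, smul_eq_mul] at h6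
    exact ⟨k, b, hbk.symm, _, mul_ne_zero (mul_ne_zero hν' hrb) hs0, h6⟩

/-- The reflections along column `j` of an element of `X`. -/
theorem inR_column (hdg : ∀ d : ι → Fˣ, dg d ∈ X) {x : GL ι F} (hx : x ∈ X) (j : ι) (ν : Fˣ) :
    InR X ((x : Matrix ι ι F) *ᵥ Pi.single j 1)
      (((ν : F) - 1) • (Pi.single j 1 ᵥ* ((x⁻¹ : GL ι F) : Matrix ι ι F))) := by
  have h : InR X (Pi.single j 1) (((ν : F) - 1) • (Pi.single j 1 : ι → F)) := by
    refine ⟨_, hdg (Function.update 1 j ν), ?_⟩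
    ext a b
    rw [coe_dg, Matrix.add_apply, vecMulVec_apply]
    rcases eq_or_ne a j with rfl | ha
    · rcases eq_or_ne b a with rfl | hb <;> simp [*, Ne.symm]
    · rcases eq_or_ne b a with rfl | hb <;> simp [*, Ne.symm]
  have := inR_conj hx h
  rwa [smul_vecMul] at this

theorem el_of_column (hq : 5 ≤ Fintype.card F) (hdg : ∀ d : ι → Fˣ, dg d ∈ X) {x : GL ι F}
    (hx : x ∈ X) (j : ι) {a b c : ι} (hab : a ≠ b) (hac : a ≠ c) (hbc : b ≠ c)
    (ha : (x : Matrix ι ι F) a j ≠ 0) (hb : (x : Matrix ι ι F) b j ≠ 0)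
    (hc : (x : Matrix ι ι F) c j ≠ 0) : El X := by
  set u : ι → F := (x : Matrix ι ι F) *ᵥ Pi.single j 1 with hu
  set ρ : ι → F := Pi.single j 1 ᵥ* ((x⁻¹ : GL ι F) : Matrix ι ι F) with hρ
  have hρu : ρ ⬝ᵥ u = 1 := by
    rw [hρ, hu, dotProduct_vecMul_inv]; simp
  have hue : ∀ i, u i = (x : Matrix ι ι F) i j := fun i => by simp [hu]
  have fam : ∀ ν : Fˣ, InR X u (((ν : F) - 1) • ρ) := fun ν => inR_column hdg hx j ν
  obtain ⟨ν, hν⟩ := exists_unit_ne_one (F := F) (by omega)
  set α : F := (ν : F) - 1 with hα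
  have hα0 : α ≠ 0 := sub_ne_zero.2 hν
  by_cases hm : ∃ k, ¬ (u k = 0 ↔ ρ k = 0)
  · obtain ⟨k, hk⟩ := hm
    refine el_of_mismatch (by omega) hdg (fam ν) (fun e => ha ?_) (fun e => ?_) (k := k) ?_
    · rw [← hue, e]; rfl
    · rcases smul_eq_zero.1 e with e | e
      · exact hα0 e
      · rw [e, zero_dotProduct] at hρu; exact zero_ne_one hρu
    · rw [Pi.smul_apply, smul_eq_mul, mul_eq_zero, or_iff_right hα0]; exact hk
  push_neg at hm
  have hp : ∀ i, (x : Matrix ι ι F) i j ≠ 0 → ρ i * u i ≠ 0 := fun i hi => by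
    have : u i ≠ 0 := by rwa [hue]
    exact mul_ne_zero (fun e => this ((hm i).2 e)) this
  obtain ⟨d, hd1, hd2⟩ := exists_weights hq (fun i => ρ i * u i) hab hac hbc (hp a ha) (hp b hb)
    (hp c hc)
  set u' : ι → F := fun i => (d i : F) * u i with hu'
  have hρu' : ρ ⬝ᵥ u' = 0 := by
    rw [dotProduct, ← hd1]; exact Finset.sum_congr rfl fun i _ => by simp [hu']; ring
  -- the transvection with centre `u'` and axis `ρ`
  have h1 : ∀ β : F, InT X (β • u') ρ := by
    obtain ⟨y', hy', ey'⟩ := inR_conj (hdg d) (fam ν)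
    rw [dg_mulVec, vecMul_dg_inv] at ey'
    have hc2 := inR_conj hy' (fam ν)
    rw [inR_mulVec ey'] at hc2
    have hfix : ((((ν : F) - 1) • ρ) ᵥ* ((y'⁻¹ : GL ι F) : Matrix ι ι F)) = ((ν : F) - 1) • ρ := by
      have e2 : (((ν : F) - 1) • ρ) ᵥ* (y' : Matrix ι ι F) = ((ν : F) - 1) • ρ := by
        rw [inR_vecMul ey', smul_dotProduct, hρu', smul_zero, zero_smul, add_zero]
      conv_lhs => rw [← e2]
      rw [vecMul_vecMul, ← Units.val_mul, mul_inv_cancel, Units.val_one, vecMul_one]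
    rw [hfix] at hc2
    set t : F := (fun i => (α • ρ) i * (((d i)⁻¹ : Fˣ) : F)) ⬝ᵥ u with ht
    have ht0 : t ≠ 0 := by
      have : t = α * ∑ i, ρ i * u i * (((d i)⁻¹ : Fˣ) : F) := by
        rw [ht, dotProduct, Finset.mul_sum]
        exact Finset.sum_congr rfl fun i _ => by simp; ring
      rw [this]
      exact mul_ne_zero hα0 hd2
    have h2 := inT_of_centres (fam ν) hc2 (by
      rw [add_sub_cancel_left, dotProduct_smul, smul_dotProduct, hρu', smul_zero, smul_zero])
    rw [add_sub_cancel_left, smul_smul] at h2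
    set κ : F := (1 + (α • ρ) ⬝ᵥ u)⁻¹ * t * α with hκ
    have hκ0 : κ ≠ 0 := mul_ne_zero (mul_ne_zero (inv_ne_zero
      (inR_one_add_ne_zero (fam ν))) ht0) hα0
    have h3 : InT X (κ • u') ρ := by
      have := inT_smul_left (c := α) h2
      rwa [smul_smul, mul_comm] at this
    intro β
    rcases eq_or_ne β 0 with rfl | hβ
    · rw [zero_smul]; exact inT_zero_left ρ
    obtain ⟨y, hy, ey⟩ := fam (Units.mk0 _ (mul_ne_zero (inv_ne_zero hβ) hκ0))
    rw [Units.val_mk0] at ey
    have h4 := inT_conj hy h3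
    rw [inR_mulVec ey, smul_dotProduct, dotProduct_smul, hρu', smul_zero, smul_zero, zero_smul,
      add_zero] at h4
    have e2 : ρ ᵥ* (y : Matrix ι ι F) = (β⁻¹ * κ) • ρ := by
      rw [inR_vecMul ey, hρu, one_smul, sub_smul, one_smul, add_sub_cancel]
    have e3 : ρ ᵥ* ((y⁻¹ : GL ι F) : Matrix ι ι F) = (β * κ⁻¹) • ρ := by
      have := congrArg (fun v => v ᵥ* ((y⁻¹ : GL ι F) : Matrix ι ι F)) e2
      simp only [vecMul_vecMul, ← Units.val_mul, mul_inv_cancel, Units.val_one, vecMul_one,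
        smul_vecMul] at this
      conv_rhs => rw [this, smul_smul, show β * κ⁻¹ * (β⁻¹ * κ) = 1 by field_simp, one_smul]
    rw [e3] at h4
    have := inT_smul_left h4
    rwa [smul_smul, mul_assoc, inv_mul_cancel₀ hκ0, mul_one] at this
  -- second weights
  obtain ⟨e0, he1, he2⟩ := exists_weights hq (fun i => ρ i * u' i) hab hac hbc
    (by have := hp a ha; simp [hu'] at this ⊢; tauto)
    (by have := hp b hb; simp [hu'] at this ⊢; tauto)
    (by have := hp c hc; simp [hu'] at this ⊢; tauto)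
  set w : ι → F := fun i => (((e0 i)⁻¹ : Fˣ) : F) * u' i with hw
  set ρ' : ι → F := fun i => ρ i * (e0 i : F) with hρ'
  have hrw : InT X w ρ' := by
    have := inT_conj (hdg e0⁻¹) (h1 1)
    rw [one_smul, dg_mulVec, vecMul_dg_inv] at this
    simpa [hw, hρ'] using this
  have hs : ρ' ⬝ᵥ u' = 0 := by
    rw [dotProduct, ← he1]; exact Finset.sum_congr rfl fun i _ => by simp [hρ']; ring
  set s : F := ρ ⬝ᵥ w with hsdef
  have hs0 : s ≠ 0 := by
    rw [hsdef, dotProduct]
    convert he2 using 1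
    exact Finset.sum_congr rfl fun i _ => by simp [hw]; ring
  have h5 : ∀ μ : F, InT X u' (μ • ρ') := by
    intro μ
    have := inT_comm (inT_smul_right (h1 (μ * s⁻¹))) hrw hs
    rwa [smul_dotProduct, ← hsdef, smul_eq_mul, mul_assoc, inv_mul_cancel₀ hs0, mul_one] at this
  have hua : u a ≠ 0 := by rwa [hue]
  set φ : ι → F := ρ + (-(((e0 a)⁻¹ : Fˣ) : F)) • ρ' with hφ
  have hT : InT X u' φ := inT_add_right (by simpa using h1 1) (h5 _)
  refine el_of_mismatch (by omega) hdg (inR_of_inT hT) (fun e => ?_) (fun e => ?_) (k := a) ?_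
  · exact mul_ne_zero (d a).ne_zero hua (congrFun e a)
  · apply he2
    have hi : ∀ i, ρ i * (e0 i : F) = (e0 a : F) * ρ i := by
      intro i
      have h6 := congrFun e i
      simp only [hφ, hρ', Pi.add_apply, Pi.smul_apply, smul_eq_mul, Pi.zero_apply] at h6
      have h7 := congrArg (fun z => (e0 a : F) * z) h6
      simp only [mul_add, mul_zero] at h7
      rw [← mul_assoc, mul_neg, Units.mul_inv] at h7
      linear_combination -h7
    have h8 : ∀ i, ρ i * u' i * (((e0 i)⁻¹ : Fˣ) : F) = (((e0 a)⁻¹ : Fˣ) : F) * (ρ i * u' i) := by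
      intro i
      have h9 := hi i
      have := (e0 i).ne_zero
      have := (e0 a).ne_zero
      rw [Units.val_inv_eq_inv_val, Units.val_inv_eq_inv_val]
      field_simp
      linear_combination (-u' i) * h9
    rw [Finset.sum_congr rfl fun i _ => h8 i, ← Finset.mul_sum]
    refine mul_eq_zero_of_right _ ?_
    rw [← hρu', dotProduct]
  · intro h
    have h0 : φ a = 0 := by simp [hφ, hρ']; field_simp; ring
    exact mul_ne_zero (d a).ne_zero hua (h.2 h0)

theorem el_of_nonMono (hq : 5 ≤ Fintype.card F) (h3 : 3 ≤ Fintype.card ι)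
    (hmono : ∀ g : GL ι F, Mono (g : Matrix ι ι F) → g ∈ X) {x : GL ι F} (hx : x ∈ X)
    (hx' : ¬ Mono (x : Matrix ι ι F)) : El X := by
  classical
  have hdg : ∀ d : ι → Fˣ, dg d ∈ X := fun d => hmono _ (mono_diagonal _)
  obtain ⟨j, hj⟩ : ∃ j, ∀ i, ∃ k, k ≠ i ∧ (x : Matrix ι ι F) k j ≠ 0 := by
    rw [Mono] at hx'; push_neg at hx'; exact hx'
  obtain ⟨a, -, ha⟩ := hj j
  obtain ⟨b, hba, hb⟩ := hj a
  obtain ⟨k, hk⟩ : ∃ k, k ∉ ({a, b} : Finset ι) := by
    obtain ⟨k, -, hk⟩ := Finset.exists_mem_notMem_of_card_lt_card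
      (show ({a, b} : Finset ι).card < (Finset.univ : Finset ι).card by
        rw [Finset.card_univ]; exact (Finset.card_le_two).trans_lt h3)
    exact ⟨k, hk⟩
  simp only [Finset.mem_insert, Finset.mem_singleton, not_or] at hk
  by_cases h : ∃ i, i ≠ a ∧ i ≠ b ∧ (x : Matrix ι ι F) i j ≠ 0
  · obtain ⟨i, hia, hib, hi⟩ := h
    exact el_of_column hq hdg hx j hba.symm hia.symm hib.symm ha hb hi
  push_neg at h
  set u : ι → F := (x : Matrix ι ι F) *ᵥ Pi.single j 1 with hu
  set ρ : ι → F := Pi.single j 1 ᵥ* ((x⁻¹ : GL ι F) : Matrix ι ι F) with hρ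
  have hue : ∀ i, u i = (x : Matrix ι ι F) i j := fun i => by simp [hu]
  have hρu : ρ ⬝ᵥ u = 1 := by
    rw [hρ, hu, dotProduct_vecMul_inv]; simp
  by_cases hm : ∃ i, ¬ (u i = 0 ↔ ρ i = 0)
  · obtain ⟨ν, hν⟩ := exists_unit_ne_one (F := F) (by omega)
    have hα0 : (ν : F) - 1 ≠ 0 := sub_ne_zero.2 hν
    obtain ⟨i, hi⟩ := hm
    refine el_of_mismatch (by omega) hdg (inR_column hdg hx j ν) (fun e => ha ?_) (fun e => ?_)
      (k := i) (by rw [← hu, ← hρ, Pi.smul_apply, smul_eq_mul, mul_eq_zero, or_iff_right hα0]; exact hi)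
    · rw [← hue]; exact congrFun e a
    · rw [← hρ] at e
      rcases smul_eq_zero.1 e with e | e
      · exact hα0 e
      · rw [e, zero_dotProduct] at hρu; exact zero_ne_one hρu
  push_neg at hm
  set p : F := ρ a * u a with hp
  have hp0 : p ≠ 0 := mul_ne_zero (fun e => ha (by rw [← hue]; exact (hm a).2 e)) (by rwa [hue])
  obtain ⟨ν, hν⟩ := exists_unit_avoid ({1, 1 - p⁻¹} : Finset F)
    ((Nat.add_le_add_right Finset.card_le_two 1).trans_lt (by omega))
  simp only [Finset.mem_insert, Finset.mem_singleton, not_or] at hν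
  obtain ⟨y, hy, ey⟩ := inR_column hdg hx j ν
  set σ : Equiv.Perm ι := Equiv.swap b k with hσ
  have hx2 : y * pm σ * x ∈ X := X.mul_mem (X.mul_mem hy (hmono _ (mono_pm σ))) hx
  have hcol : ∀ i, ((y * pm σ * x : GL ι F) : Matrix ι ι F) i j =
      u (σ i) + ((ν : F) - 1) * p * u i := by
    intro i
    have e1 : ((y * pm σ * x : GL ι F) : Matrix ι ι F) *ᵥ Pi.single j 1 =
        (y : Matrix ι ι F) *ᵥ (u ∘ σ) := by
      rw [Units.val_mul, Units.val_mul, ← mulVec_mulVec, ← mulVec_mulVec, ← hu, pm_mulVec]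
    have e2 : ρ ⬝ᵥ (u ∘ σ) = p := by
      rw [dotProduct, Finset.sum_eq_single a, Function.comp_apply,
        Equiv.swap_apply_of_ne_of_ne hba.symm (Ne.symm hk.1)]
      · intro l _ hla
        rcases eq_or_ne l b with rfl | hlb
        · rw [Function.comp_apply, hσ, Equiv.swap_apply_left, hue, h k hk.1 hk.2, mul_zero]
        · rw [(hm l).1 (by rw [hue]; exact h l hla hlb), zero_mul]
      · intro h'; exact absurd (Finset.mem_univ a) h'
    have e3 := congrFun e1 i
    rw [inR_mulVec ey, ← hρ, smul_dotProduct, e2] at e3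
    simpa [← hu] using e3
  refine el_of_column hq hdg hx2 j hba.symm (Ne.symm hk.1) (Ne.symm hk.2) ?_ ?_ ?_
  · rw [hcol, hσ, Equiv.swap_apply_of_ne_of_ne hba.symm (Ne.symm hk.1)]
    intro e
    have h0 : u a * (1 + ((ν : F) - 1) * p) = 0 := by linear_combination e
    rcases mul_eq_zero.1 h0 with e' | e'
    · exact ha (by rw [← hue]; exact e')
    · apply hν.2
      field_simp
      linear_combination e'
  · rw [hcol, hσ, Equiv.swap_apply_left, hue k, h k hk.1 hk.2, zero_add]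
    exact mul_ne_zero (mul_ne_zero (sub_ne_zero.2 hν.1) hp0) (by rwa [hue])
  · rw [hcol, hσ, Equiv.swap_apply_right, hue k, h k hk.1 hk.2, mul_zero, add_zero, hue]
    exact hb

end Cfsg.Lib.Linear.MonoMax
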