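import Cfsg.Agent.Lib.Linear.MonoMax.GLCase

/-!
# Subgroups of `SL` containing the monomial group: tools

Torus elements, inverse transposes, and extraction of an elementary transvection from one
transvection with axis a coordinate functional.
-/

set_option autoImplicit false

namespace Cfsg.Lib.Linear.MonoMax

open Matrix Module
open Cfsg.Lib.Linear.TVec

variable {ι : Type} [Fintype ι] [DecidableEq ι] {F : Type*} [Field F]

/-- `M` is a subgroup of `SL` containing every monomial matrix of determinant `1`. -/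
structure Over (M : Subgroup (GL ι F)) : Prop where
  le : M ≤ Cfsg.Geo.specialLinear ι F
  mono : ∀ g ∈ Cfsg.Geo.specialLinear ι F, Mono (g : Matrix ι ι F) → g ∈ M

/-- The diagonal element with `ν` at `k` and `ν⁻¹` at `l`. -/
def tau (k l : ι) (ν : Fˣ) : ι → Fˣ := Pi.mulSingle k ν * Pi.mulSingle l ν⁻¹

theorem prod_mulSingle (k : ι) (ν : Fˣ) : ∏ i, (Pi.mulSingle k ν : ι → Fˣ) i = ν := by
  exact Fintype.prod_pi_mulSingle' k ν

theorem prod_tau (k l : ι) (ν : Fˣ) : ∏ i, tau k l ν i = 1 := by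
  simp only [tau, Pi.mul_apply, Finset.prod_mul_distrib, prod_mulSingle, mul_inv_cancel]

theorem tau_left {k l : ι} (h : k ≠ l) (ν : Fˣ) : tau k l ν k = ν := by simp [tau, h]

theorem tau_right {k l : ι} (h : k ≠ l) (ν : Fˣ) : tau k l ν l = ν⁻¹ := by simp [tau, h.symm]

theorem tau_off {k l i : ι} (hk : i ≠ k) (hl : i ≠ l) (ν : Fˣ) : tau k l ν i = 1 := by
  simp [tau, hk, hl]

theorem tau_mul (k l : ι) (ν : Fˣ) : tau k l ν * tau k l ν = tau k l (ν * ν) := by
  funext i
  simp only [tau, Pi.mul_apply, Pi.mulSingle_apply]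
  split_ifs <;> simp [mul_comm, mul_left_comm]

theorem Over.dg_mem {M : Subgroup (GL ι F)} (hM : Over M) {d : ι → Fˣ} (h : ∏ i, d i = 1) :
    dg d ∈ M := hM.mono _ (dg_mem_SL h) (mono_diagonal _)

theorem det_dg (d : ι → Fˣ) : Matrix.GeneralLinearGroup.det (dg d) = ∏ i, d i :=
  Units.ext (by rw [Matrix.GeneralLinearGroup.val_det_apply, coe_dg, det_diagonal, Units.coe_prod])

theorem pm_apply (σ : Equiv.Perm ι) (i j : ι) :
    ((pm σ : GL ι F) : Matrix ι ι F) i j = if σ i = j then 1 else 0 := by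
  show σ.permMatrix F i j = _
  rw [Equiv.Perm.permMatrix, PEquiv.toMatrix_apply]
  simp

/-- A permutation followed by a diagonal matrix, corrected at `r` to determinant `1`. -/
noncomputable def monoSL (σ : Equiv.Perm ι) (d : ι → Fˣ) (r : ι) : GL ι F :=
  pm σ * dg (d * Pi.mulSingle r (Matrix.GeneralLinearGroup.det (pm σ * dg d))⁻¹)

theorem monoSL_mem (σ : Equiv.Perm ι) (d : ι → Fˣ) (r : ι) :
    monoSL σ d r ∈ Cfsg.Geo.specialLinear ι F := by
  rw [Cfsg.Geo.specialLinear, MonoidHom.mem_ker, monoSL, ← dg_mul, ← mul_assoc, map_mul, det_dg,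
    prod_mulSingle, mul_inv_cancel]

theorem mono_monoSL (σ : Equiv.Perm ι) (d : ι → Fˣ) (r : ι) :
    Mono (monoSL σ d r : Matrix ι ι F) := by
  rw [monoSL, Units.val_mul]; exact mono_mul (mono_pm σ) (mono_diagonal _)

theorem monoSL_apply_of_ne (σ : Equiv.Perm ι) (d : ι → Fˣ) {r i j : ι} (hj : j ≠ r) :
    (monoSL σ d r : Matrix ι ι F) i j = if σ i = j then (d j : F) else 0 := by
  rw [monoSL, Units.val_mul, coe_dg, mul_diagonal, pm_apply]
  simp [hj]

theorem monoSL_apply_ne (σ : Equiv.Perm ι) (d : ι → Fˣ) {r i j : ι} (h : σ i ≠ j) :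
    (monoSL σ d r : Matrix ι ι F) i j = 0 := by
  rw [monoSL, Units.val_mul, coe_dg, mul_diagonal, pm_apply, if_neg h, zero_mul]

/-- Inverse transpose. -/
def tinv : GL ι F →* GL ι F where
  toFun g := ⟨((g⁻¹ : GL ι F) : Matrix ι ι F)ᵀ, (g : Matrix ι ι F)ᵀ,
    by rw [← transpose_mul, ← Units.val_mul, mul_inv_cancel, Units.val_one, transpose_one],
    by rw [← transpose_mul, ← Units.val_mul, inv_mul_cancel, Units.val_one, transpose_one]⟩
  map_one' := Units.ext (by simp)
  map_mul' g h := Units.ext (by simp [_root_.mul_inv_rev, transpose_mul])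

theorem coe_tinv (g : GL ι F) : (tinv g : Matrix ι ι F) = ((g⁻¹ : GL ι F) : Matrix ι ι F)ᵀ := rfl

theorem tinv_tinv (g : GL ι F) : tinv (tinv g) = g :=
  Units.ext (by
    show ((g : Matrix ι ι F)ᵀ)ᵀ = _
    rw [transpose_transpose])

theorem coe_tinv_inv (g : GL ι F) : (tinv g⁻¹ : Matrix ι ι F) = (g : Matrix ι ι F)ᵀ := by
  rw [coe_tinv, inv_inv]

theorem tinv_mem_SL {g : GL ι F} (h : g ∈ Cfsg.Geo.specialLinear ι F) :
    tinv g ∈ Cfsg.Geo.specialLinear ι F := by
  rw [Cfsg.Geo.specialLinear, MonoidHom.mem_ker] at h ⊢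
  refine Units.ext ?_
  rw [Matrix.GeneralLinearGroup.val_det_apply, coe_tinv, det_transpose,
    ← Matrix.GeneralLinearGroup.val_det_apply, map_inv, h, inv_one]

theorem Over.map_tinv {M : Subgroup (GL ι F)} (hM : Over M) : Over (M.map tinv) where
  le := by
    rintro _ ⟨g, hg, rfl⟩
    exact tinv_mem_SL (hM.le hg)
  mono g hg hm := by
    refine ⟨tinv g, hM.mono _ (tinv_mem_SL hg) ?_, tinv_tinv g⟩
    rw [coe_tinv]
    exact mono_transpose (mono_inv hm)

theorem el_of_el_tinv {M : Subgroup (GL ι F)} (h : El (M.map tinv)) : El M := by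
  obtain ⟨a, b, hab, x, hx, hd, g, hg, e⟩ := h
  refine ⟨b, a, hab.symm, -x, neg_ne_zero.2 hx, by simp [hab], ?_⟩
  suffices h5 : (g : Matrix ι ι F) = tvMat (Pi.single b (-x)) (Pi.single a 1) by
    rw [show tv (Pi.single b (-x)) (Pi.single a 1) _ = g from Units.ext h5.symm]
    exact hg
  have e1 : ((g⁻¹ : GL ι F) : Matrix ι ι F) = tvMat (Pi.single b x) (Pi.single a 1) := by
    have := congrArg (fun u : GL ι F => (u : Matrix ι ι F)ᵀ) e
    simp only [coe_tinv, transpose_transpose, coe_tv, tvMat] at this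
    rw [this, transpose_add, transpose_one, tvMat]
    congr 1
    ext i j
    simp [vecMulVec_apply, Pi.single_apply]
    split_ifs <;> simp
  have h2 : (g : Matrix ι ι F) * ((g⁻¹ : GL ι F) : Matrix ι ι F) = 1 := by
    rw [← Units.val_mul, mul_inv_cancel, Units.val_one]
  have h3 : tvMat (Pi.single b x) (Pi.single a (1 : F)) *
      tvMat (Pi.single b (-x)) (Pi.single a 1) = 1 := by
    rw [tvMat_mul_left _ _ _ (by simp [hab]), ← Pi.single_add, add_neg_cancel, Pi.single_zero,
      tvMat_zero_left]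
  rw [e1] at h2
  exact left_inv_eq_right_inv h2 h3

section
variable [Fintype F]

theorem el_of_axis {M : Subgroup (GL ι F)} (hM : Over M) (hq : 3 ≤ Fintype.card F)
    (hn : 4 ≤ Fintype.card ι) {w : ι → F} {r : ι} (h : InT M w (Pi.single r 1)) (hw : w ≠ 0) :
    El M := by
  obtain ⟨ν, hν⟩ := exists_unit_ne_one hq
  have hν1 : (ν : F) - 1 ≠ 0 := sub_ne_zero.2 hν
  have hr : ∀ {v : ι → F}, InT M v (Pi.single r 1) → v r = 0 := fun hv => by
    simpa using hv.1
  have step : ∀ {v : ι → F} {k l : ι}, InT M v (Pi.single r 1) → k ≠ r → l ≠ r → k ≠ l →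
      InT M (Pi.single k (((ν : F) - 1) * v k) +
        Pi.single l ((((ν⁻¹ : Fˣ) : F) - 1) * v l)) (Pi.single r 1) := by
    intro v k l hv hkr hlr hkl
    have h1 := inT_conj (hM.dg_mem (prod_tau k l ν)) hv
    rw [dg_mulVec, vecMul_dg_inv] at h1
    rw [show (fun i => (Pi.single r 1 : ι → F) i * (((tau k l ν i)⁻¹ : Fˣ) : F)) = Pi.single r 1
      from funext fun i => by
        rcases eq_or_ne i r with rfl | hi
        · simp [tau_off (Ne.symm hkr) (Ne.symm hlr)]
        · simp [hi]] at h1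
    have h2 : InT M ((-1 : F) • v) (Pi.single r 1) :=
      inT_smul_left (by rw [neg_one_smul]; exact inT_neg hv)
    convert inT_add_left h1 h2 using 1
    funext i
    rcases eq_or_ne i k with rfl | hik
    · simp [tau_left hkl, hkl]; ring
    rcases eq_or_ne i l with rfl | hil
    · simp [tau_right hkl, hik]; ring
    · simp [tau_off hik hil, hik, hil]
  obtain ⟨k, hk⟩ := Function.ne_iff.1 hw
  have hkr : k ≠ r := fun e => hk (e ▸ hr h)
  obtain ⟨l, -, hl⟩ := Finset.exists_mem_notMem_of_card_lt_card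
    (show ({r, k} : Finset ι).card < (Finset.univ : Finset ι).card by
      rw [Finset.card_univ]; exact Finset.card_le_two.trans_lt (by omega))
  simp only [Finset.mem_insert, Finset.mem_singleton, not_or] at hl
  obtain ⟨m, -, hm⟩ := Finset.exists_mem_notMem_of_card_lt_card
    (show ({r, k, l} : Finset ι).card < (Finset.univ : Finset ι).card by
      rw [Finset.card_univ]; exact Finset.card_le_three.trans_lt (by omega))
  simp only [Finset.mem_insert, Finset.mem_singleton, not_or] at hm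
  have h1 := step (step h hkr hl.1 (Ne.symm hl.2)) hkr hm.1 (Ne.symm hm.2.1)
  refine ⟨k, r, hkr, ((ν : F) - 1) * (((ν : F) - 1) * w k),
    mul_ne_zero hν1 (mul_ne_zero hν1 hk), ?_⟩
  convert h1 using 1
  simp [Ne.symm hl.2, hm.2.1, hm.2.2]

end

end Cfsg.Lib.Linear.MonoMax
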