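import Cfsg.Agent.Lib.Linear.MonoMax.SLThree

/-!
# Overgroups in `SL₄` of the monomial group

For `q ≥ 7`. A conjugate `z = x d x⁻¹` of a diagonal element which is monomial and has a non-zero
diagonal entry `z i i` forces `d` to be constant on the support of row `i` of `x`; the traces of
the elements used are non-zero.
-/

set_option autoImplicit false

namespace Cfsg.Lib.Linear.MonoMax

open Matrix Module
open Cfsg.Lib.Linear.TVec

variable {ι : Type} [Fintype ι] [DecidableEq ι] {F : Type*} [Field F]
  {M : Subgroup (GL ι F)}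

theorem eq_of_row_fixed {x : GL ι F} {d : ι → Fˣ}
    (hz : Mono ((x * dg d * x⁻¹ : GL ι F) : Matrix ι ι F)) {i j : ι}
    (hi : ((x * dg d * x⁻¹ : GL ι F) : Matrix ι ι F) i i ≠ 0)
    (hj : (x : Matrix ι ι F) i j ≠ 0) :
    (d j : F) = ((x * dg d * x⁻¹ : GL ι F) : Matrix ι ι F) i i := by
  obtain ⟨π, c, hπ⟩ := mono_rep hz
  have hπi : π i = i := by
    by_contra h
    exact hi (by rw [hπ, if_neg (Ne.symm h)])
  have h2 : ((x * dg d * x⁻¹ * x : GL ι F) : Matrix ι ι F) i j = ((x * dg d : GL ι F) : Matrix ι ι F) i j := by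
    rw [inv_mul_cancel_right]
  rw [Units.val_mul, Units.val_mul x (dg d), coe_dg, mul_diagonal, Matrix.mul_apply,
    Finset.sum_eq_single i (fun k _ hk => by
      rw [hπ, if_neg fun e => hk (π.injective (by rw [← e, hπi])), zero_mul])
      (fun h => absurd (Finset.mem_univ _) h)] at h2
  exact mul_left_cancel₀ hj (by rw [← h2, mul_comm])

/-- A monomial conjugate of non-zero trace forces a zero in `x`. -/
theorem exists_zero_of_mono {x : GL ι F} {d : ι → Fˣ}
    (hz : Mono ((x * dg d * x⁻¹ : GL ι F) : Matrix ι ι F)) (htr : ∑ i, (d i : F) ≠ 0)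
    {a b : ι} (hab : (d a : F) ≠ d b) : ∃ r k, (x : Matrix ι ι F) r k = 0 := by
  obtain ⟨i, hi⟩ : ∃ i, ((x * dg d * x⁻¹ : GL ι F) : Matrix ι ι F) i i ≠ 0 := by
    by_contra h
    push_neg at h
    apply htr
    have : ((x * dg d * x⁻¹ : GL ι F) : Matrix ι ι F).trace = ∑ i, (d i : F) := by
      rw [Units.val_mul, Units.val_mul, trace_units_conj, coe_dg, trace_diagonal]
    rw [← this]
    exact Finset.sum_eq_zero fun i _ => h i
  by_contra h
  push_neg at h
  exact hab ((eq_of_row_fixed hz hi (h i a)).trans (eq_of_row_fixed hz hi (h i b)).symm)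

variable [Fintype F]

theorem exists_big_unit (hq : 7 ≤ Fintype.card F) :
    ∃ γ : Fˣ, γ ^ 2 ≠ 1 ∧ γ ^ 3 ≠ 1 ∧ γ ^ 4 ≠ 1 := by
  classical
  obtain ⟨γ, hγ⟩ := IsCyclic.exists_generator (α := Fˣ)
  have hord : orderOf γ = Fintype.card F - 1 := by
    rw [orderOf_eq_card_of_forall_mem_zpowers hγ, Nat.card_eq_fintype_card, Fintype.card_units]
  have key : ∀ e, 0 < e → e ≤ 4 → γ ^ e ≠ 1 := by
    intro e he he' h
    have := Nat.le_of_dvd he (orderOf_dvd_of_pow_eq_one h)
    omega
  exact ⟨γ, key 2 (by omega) (by omega), key 3 (by omega) (by omega), key 4 (by omega) le_rfl⟩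

theorem el_of_two_zeros_four (hM : Over M) (hq : 7 ≤ Fintype.card F) (hn : Fintype.card ι = 4)
    {x : GL ι F} (hx : x ∈ M) (hx' : ¬ Mono (x : Matrix ι ι F)) {r k l : ι} (hkl : k ≠ l)
    (hk : (x : Matrix ι ι F) r k = 0) (hl : (x : Matrix ι ι F) r l = 0) : El M := by
  classical
  obtain ⟨ν, h2, h3, h4⟩ := exists_big_unit hq
  by_cases hz : Mono ((x * dg (tau k l ν) * x⁻¹ : GL ι F) : Matrix ι ι F)
  · obtain ⟨Z, hZ, hZk, hZl, hdisj⟩ := cols_small_of_mono hkl (by rwa [← pow_two]) h3 hz
    have hν4 : ν * ν * (ν * ν) ≠ 1 := fun h => h4 (by rw [← h]; simp [pow_succ, mul_assoc])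
    obtain ⟨i, hi⟩ : ∃ i, (x : Matrix ι ι F) i l ≠ 0 := by
      by_contra hc; push_neg at hc
      have h1 : ((x⁻¹ * x : GL ι F) : Matrix ι ι F) l l = 1 := by
        rw [inv_mul_cancel]; exact one_apply_eq l
      rw [Units.val_mul, Matrix.mul_apply] at h1
      simp [hc] at h1
    have hiZ : i ∈ Z := by_contra fun h => hi (hZl i h)
    obtain ⟨j, hj⟩ : ∃ j, Z.erase i ⊆ {j} := by
      rcases (Z.erase i).eq_empty_or_nonempty with e | ⟨j, hj⟩
      · exact ⟨i, by simp [e]⟩
      · exact ⟨j, fun u hu => Finset.mem_singleton.2 (Finset.card_le_one.1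
          (by rw [Finset.card_erase_of_mem hiZ]; omega) u hu j hj)⟩
    refine el_of_col_single hM (by omega) (by omega) hx hx' (r := k) (j := j) fun u hu => ?_
    by_contra hc
    have hui : u ≠ i := fun e => hi (e ▸ hdisj u hν4 hc)
    exact hu (Finset.mem_singleton.1
      (hj (Finset.mem_erase.2 ⟨hui, by_contra fun h => hc (hZk u h)⟩)))
  · exact el_of_mem_rowStab hM (by omega) (by omega)
      (M.mul_mem (M.mul_mem hx (hM.dg_mem (prod_tau k l ν))) (M.inv_mem hx))
      (conj_row x _ r fun j hj => tau_off (fun e => hj (by rw [e]; exact hk))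
        (fun e => hj (by rw [e]; exact hl)) ν) hz

/-- One zero: multiplying by a scalar turns a row-fixing conjugate into one with a small column. -/
theorem el_of_zero_four (hM : Over M) (hq : 7 ≤ Fintype.card F) (hn : Fintype.card ι = 4)
    {x : GL ι F} (hx : x ∈ M) (hx' : ¬ Mono (x : Matrix ι ι F)) {r k : ι}
    (hk : (x : Matrix ι ι F) r k = 0) : El M := by
  classical
  obtain ⟨γ, -, -, h4⟩ := exists_big_unit hq
  set e : ι → Fˣ := Pi.mulSingle k (γ ^ 4)⁻¹
  set d : ι → Fˣ := (fun _ => γ) * e with hd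
  have hprod : ∏ i, d i = 1 := by
    simp only [hd, e, Pi.mul_apply, Finset.prod_mul_distrib, prod_mulSingle, Finset.prod_const,
      Finset.card_univ, hn, mul_inv_cancel]
  set z := x * dg d * x⁻¹ with hz
  have hzM : z ∈ M := M.mul_mem (M.mul_mem hx (hM.dg_mem hprod)) (M.inv_mem hx)
  have hcomm : z = dg (fun _ => γ) * (x * dg e * x⁻¹) := by
    have hc : x * dg (fun _ : ι => γ) = dg (fun _ => γ) * x := Units.ext (by
      ext i j
      simp [coe_dg, mul_diagonal, diagonal_mul, mul_comm])
    rw [hz, hd, ← dg_mul, ← mul_assoc, hc]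
    simp only [mul_assoc]
  by_cases hzm : Mono (z : Matrix ι ι F)
  swap
  · refine el_of_mem_rowStab hM (by omega) (by omega) (r := r) hzM ⟨γ, ?_⟩ hzm
    have hrow : (Pi.single r 1 ᵥ* (x : Matrix ι ι F)) ᵥ* (dg d : Matrix ι ι F) =
        (γ : F) • (Pi.single r 1 ᵥ* (x : Matrix ι ι F)) := by
      rw [Matrix.single_one_vecMul]
      funext j
      rw [coe_dg, vecMul_diagonal, Pi.smul_apply, smul_eq_mul, Matrix.row_apply]
      rcases eq_or_ne j k with rfl | hj
      · rw [hk, zero_mul, mul_zero]
      · simp [hd, e, hj, mul_comm]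
    rw [hz, Units.val_mul, Units.val_mul, ← vecMul_vecMul, ← vecMul_vecMul, hrow, smul_vecMul,
      vecMul_vecMul, ← Units.val_mul, mul_inv_cancel, Units.val_one, vecMul_one]
  have hem : Mono ((x * dg e * x⁻¹ : GL ι F) : Matrix ι ι F) := by
    have h1 : x * dg e * x⁻¹ = (dg (fun _ : ι => γ))⁻¹ * z := by rw [hcomm, inv_mul_cancel_left]
    rw [h1, Units.val_mul]
    exact mono_mul (mono_inv (mono_diagonal _)) hzm
  obtain ⟨Z, hZ, hsupp⟩ := col_small hem (R := 1) {k}
    (fun i hi => by simp [e, Finset.mem_singleton.not.1 hi]) (Finset.card_singleton k).le (k := k)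
    (by simpa [e] using h4)
  have : 1 < Zᶜ.card := by rw [Finset.card_compl]; omega
  obtain ⟨a, ha, b, hb, hab⟩ := Finset.one_lt_card.1 this
  exact el_of_el_tinv (el_of_two_zeros_four hM.map_tinv hq hn (tinv_inv_mem hx)
    (not_mono_transpose hx') (r := k) hab
    (by rw [coe_tinv_inv, transpose_apply]; exact hsupp a (Finset.mem_compl.1 ha))
    (by rw [coe_tinv_inv, transpose_apply]; exact hsupp b (Finset.mem_compl.1 hb)))

theorem el_of_over_four (hM : Over M) (hq : 7 ≤ Fintype.card F) (hn : Fintype.card ι = 4)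
    {x : GL ι F} (hx : x ∈ M) (hx' : ¬ Mono (x : Matrix ι ι F)) : El M := by
  classical
  by_cases h : ∃ r k, (x : Matrix ι ι F) r k = 0
  · obtain ⟨r, k, hk⟩ := h; exact el_of_zero_four hM hq hn hx hx' hk
  push_neg at h
  set y := ((x⁻¹ : GL ι F) : Matrix ι ι F) with hy
  by_cases h0 : ∃ r k, y r k = 0
  · obtain ⟨r, k, hk⟩ := h0
    exact el_of_zero_four hM hq hn (M.inv_mem hx) (fun e => hx' (by simpa using mono_inv e)) hk
  push_neg at h0
  have horth : ∀ {r s : ι}, r ≠ s → ∑ i, (x : Matrix ι ι F) r i * y i s = 0 := by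
    intro r s hrs
    rw [hy, ← Matrix.mul_apply, ← Units.val_mul, mul_inv_cancel]
    exact one_apply_ne hrs
  obtain ⟨r, -, s, -, s', -, hrs, hrs', hss⟩ := Finset.two_lt_card.1
    (show 2 < (Finset.univ : Finset ι).card by rw [Finset.card_univ]; omega)
  set u : ι → ι → F := fun t i => (x : Matrix ι ι F) r i * y i t with hu
  have hu0 : ∀ t i, u t i ≠ 0 := fun t i => mul_ne_zero (h r i) (h0 i t)
  -- a diagonal element killing one entry, monomial only if `x` has a zero
  have done : ∀ t, r ≠ t → ∀ d : ι → Fˣ, ∏ i, d i = 1 → ∑ i, u t i * (d i : F) = 0 →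
      ∑ i, (d i : F) ≠ 0 → (∃ a b, (d a : F) ≠ d b) → El M := by
    intro t hrt d hd hsum htr ⟨a, b, hab⟩
    by_cases hzm : Mono ((x * dg d * x⁻¹ : GL ι F) : Matrix ι ι F)
    · obtain ⟨i, j, hij⟩ := exists_zero_of_mono hzm htr hab
      exact absurd hij (h i j)
    refine el_of_zero_four hM hq hn (M.mul_mem (M.mul_mem hx (hM.dg_mem hd)) (M.inv_mem hx)) hzm
      (r := r) (k := t) ?_
    rw [Units.val_mul, Units.val_mul, coe_dg, Matrix.mul_apply, ← hy]
    simp only [mul_diagonal]
    rw [← hsum]
    exact Finset.sum_congr rfl fun i _ => by simp only [hu]; ring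
  by_cases hc : ∃ t, r ≠ t ∧ ∃ a b, u t a ≠ u t b
  · obtain ⟨t, hrt, a, b, hab'⟩ := hc
    have hab : a ≠ b := fun e => hab' (by rw [e])
    set ν : Fˣ := Units.mk0 (u t b / u t a) (div_ne_zero (hu0 t b) (hu0 t a)) with hνdef
    have hν : (ν : F) ≠ 1 := fun e => hab' (by
      rw [hνdef, Units.val_mk0, div_eq_one_iff_eq (hu0 t a)] at e
      exact e.symm)
    have hpair : (Finset.univ.filter fun i => i = a ∨ i = b) = {a, b} := by ext; simp
    have hrest : (Finset.univ.filter fun i => ¬(i = a ∨ i = b)).card = 2 := by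
      rw [Finset.filter_not, Finset.card_sdiff, hpair, Finset.inter_univ, Finset.card_pair hab,
        Finset.card_univ, hn]
    by_cases hν1 : (ν : F) = -1
    · obtain ⟨α, -, -, h4⟩ := exists_big_unit hq
      have hba : u t b = -u t a := by
        rw [hνdef, Units.val_mk0, div_eq_iff (hu0 t a)] at hν1
        rw [hν1]; ring
      have h2 : (2 : F) ≠ 0 := fun h2 => hν (by rw [hν1]; linear_combination -h2)
      let d : ι → Fˣ := fun i => if i = a ∨ i = b then α else α⁻¹
      refine done t hrt d ?_ ?_ ?_ ?_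
      · simp only [d]
        rw [Finset.prod_ite, Finset.prod_const, Finset.prod_const, hrest, hpair,
          Finset.card_pair hab, ← mul_pow, mul_inv_cancel, one_pow]
      · have e : ∀ i, u t i * (d i : F) = ((α⁻¹ : Fˣ) : F) * u t i +
            if i = a ∨ i = b then ((α : F) - ((α⁻¹ : Fˣ) : F)) * u t i else 0 := by
          intro i; simp only [d]; split_ifs <;> ring
        simp only [e, Finset.sum_add_distrib, ← Finset.mul_sum]
        rw [show ∑ i, u t i = 0 from horth hrt, mul_zero, zero_add, ← Finset.sum_filter, hpair,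
          Finset.sum_pair hab, hba]
        ring
      · simp only [d, apply_ite (Units.val : Fˣ → F)]
        rw [Finset.sum_ite, Finset.sum_const, Finset.sum_const, hrest, hpair,
          Finset.card_pair hab, ← smul_add, two_nsmul, ← two_mul]
        intro e
        have e1 : (α : F) + ((α⁻¹ : Fˣ) : F) = 0 := (mul_eq_zero.1 e).resolve_left h2
        apply h4
        ext
        have e2 : (α : F) * α = -1 := by
          have := congrArg (fun z => (α : F) * z) e1
          simp only [mul_add, mul_zero, Units.mul_inv] at this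
          linear_combination this
        rw [Units.val_pow_eq_pow_val, Units.val_one]
        linear_combination ((α : F) * α - 1) * e2
      · obtain ⟨c, hc⟩ : ∃ c, ¬(c = a ∨ c = b) := by
          obtain ⟨c, hc⟩ := Finset.card_pos.1 (show 0 < _ by rw [hrest]; omega)
          exact ⟨c, (Finset.mem_filter.1 hc).2⟩
        refine ⟨a, c, fun e => h4 ?_⟩
        simp only [d, true_or, if_true, if_neg hc] at e
        rw [show (4 : ℕ) = 2 * 2 from rfl, pow_mul, pow_two α]
        nth_rw 2 [Units.ext e]
        rw [mul_inv_cancel, one_pow]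
    · refine done t hrt (tau a b ν) (prod_tau a b ν) ?_ ?_ ⟨a, b, ?_⟩
      · have hoff : ∀ i ∉ ({a, b} : Finset ι), tau a b ν i = 1 := fun i hi => by
          simp only [Finset.mem_insert, Finset.mem_singleton, not_or] at hi
          exact tau_off hi.1 hi.2 ν
        have e1 : ∑ i, u t i * (tau a b ν i : F) = ∑ i, u t i * ((tau a b ν i : F) - 1) := by
          simp only [mul_sub, mul_one, Finset.sum_sub_distrib]
          rw [show ∑ i, u t i = 0 from horth hrt, sub_zero]
        rw [e1, ← Finset.sum_subset (Finset.subset_univ ({a, b} : Finset ι))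
          (fun i _ hi => by rw [hoff i hi]; simp), Finset.sum_pair hab, tau_left hab, tau_right hab,
          Units.val_inv_eq_inv_val, hνdef, Units.val_mk0]
        have := hu0 t a
        have := hu0 t b
        field_simp
        ring
      · have e : ∑ i, (tau a b ν i : F) = ∑ i, ((tau a b ν i : F) - 1) + 4 := by
          rw [Finset.sum_sub_distrib, Finset.sum_const, Finset.card_univ, hn]
          simp
        rw [e, ← Finset.sum_subset (Finset.subset_univ ({a, b} : Finset ι)) (fun i _ hi => by
            simp only [Finset.mem_insert, Finset.mem_singleton, not_or] at hi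
            rw [tau_off hi.1 hi.2]; simp),
          Finset.sum_pair hab, tau_left hab, tau_right hab, Units.val_inv_eq_inv_val]
        intro e
        have : ((ν : F) + 1) * ((ν : F) + 1) = 0 := by
          have := ν.ne_zero
          field_simp at e
          linear_combination e
        exact hν1 (eq_neg_of_add_eq_zero_left (mul_self_eq_zero.1 this))
      · rw [tau_left hab, tau_right hab]
        intro e
        have : (ν : F) * ν = 1 := by nth_rw 2 [e]; rw [Units.mul_inv]
        rcases mul_self_eq_one_iff.1 this with e | e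
        exacts [hν e, hν1 e]
  · exfalso
    push_neg at hc
    set C : F := u s r with hC
    set C' : F := u s' r with hC'
    have hC0 : C' ≠ 0 := hu0 s' r
    have e : ∀ i, y i s * C' = C * y i s' := by
      intro i
      apply mul_left_cancel₀ (h r i)
      linear_combination C' * hc s hrs i r - C * hc s' hrs' i r
    have h1 : (x * x⁻¹ : GL ι F).val s s = 1 := by rw [mul_inv_cancel]; exact one_apply_eq s
    have h2 : (x * x⁻¹ : GL ι F).val s s' = 0 := by rw [mul_inv_cancel]; exact one_apply_ne hss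
    rw [Units.val_mul, Matrix.mul_apply] at h1 h2
    have : (∑ i, (x : Matrix ι ι F) s i * y i s) * C' =
        C * ∑ i, (x : Matrix ι ι F) s i * y i s' := by
      rw [Finset.sum_mul, Finset.mul_sum]
      exact Finset.sum_congr rfl fun i _ => by linear_combination (x : Matrix ι ι F) s i * e i
    rw [hy, h1, h2, one_mul, mul_zero] at this
    exact hC0 this

end Cfsg.Lib.Linear.MonoMax
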