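import Cfsg.Agent.Lib.Linear.MonoMax.SLThree

/-!
# Overgroups in `SL` of the monomial group

For `q ≥ 5` and `n ≥ 10`, a subgroup of `SL` containing the monomial group and one more element
contains an elementary transvection.
-/

set_option autoImplicit false

namespace Cfsg.Lib.Linear.MonoMax

open Matrix Module
open Cfsg.Lib.Linear.TVec

variable {ι : Type} [Fintype ι] [DecidableEq ι] {F : Type*} [Field F] [Fintype F]
  {M : Subgroup (GL ι F)}

omit [Fintype F] in
theorem sub_single_smul (c : F) (v : ι → F) : c • v - v = (c - 1) • v := by rw [sub_smul, one_smul]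

theorem three_of_small (p : ι → Prop) (Z : Finset ι) (hZ : Z.card + 3 ≤ Fintype.card ι)
    (h : ∀ i ∉ Z, p i) : ∃ a b c, a ≠ b ∧ a ≠ c ∧ b ≠ c ∧ p a ∧ p b ∧ p c := by
  have : 3 ≤ Zᶜ.card := by rw [Finset.card_compl]; omega
  obtain ⟨a, ha, b, hb, c, hc, hab, hac, hbc⟩ := Finset.two_lt_card.1 this
  exact ⟨a, b, c, hab, hac, hbc, h a (Finset.mem_compl.1 ha), h b (Finset.mem_compl.1 hb),
    h c (Finset.mem_compl.1 hc)⟩

omit [Fintype F] in
theorem conj_entry (x : GL ι F) (d : ι → Fˣ) (r s : ι) :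
    ((x * dg d * x⁻¹ : GL ι F) : Matrix ι ι F) r s =
      ∑ i, (x : Matrix ι ι F) r i * (d i : F) * ((x⁻¹ : GL ι F) : Matrix ι ι F) i s := by
  rw [Units.val_mul, Units.val_mul, coe_dg, Matrix.mul_apply]
  simp [mul_diagonal]

omit [Fintype F] in
theorem orth_entry (x : GL ι F) {r s : ι} (h : r ≠ s) :
    ∑ i, (x : Matrix ι ι F) r i * ((x⁻¹ : GL ι F) : Matrix ι ι F) i s = 0 := by
  rw [← Matrix.mul_apply, ← Units.val_mul, mul_inv_cancel]
  exact one_apply_ne h

theorem el_of_two_zeros (hM : Over M) (hq : 5 ≤ Fintype.card F) (hn : 6 ≤ Fintype.card ι)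
    {x : GL ι F} (hx : x ∈ M) (hx' : ¬ Mono (x : Matrix ι ι F)) {r k l : ι} (hkl : k ≠ l)
    (hk : (x : Matrix ι ι F) r k = 0) (hl : (x : Matrix ι ι F) r l = 0) : El M := by
  classical
  obtain ⟨ν, hν⟩ := IsCyclic.exists_generator (α := Fˣ)
  have hord : orderOf ν = Fintype.card F - 1 := by
    rw [orderOf_eq_card_of_forall_mem_zpowers hν, Nat.card_eq_fintype_card, Fintype.card_units]
  have hpow : ∀ e, 0 < e → e ≤ 3 → ν ^ e ≠ 1 := by
    intro e he he' h
    have := Nat.le_of_dvd he (orderOf_dvd_of_pow_eq_one h)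
    omega
  by_cases hz : Mono ((x * dg (tau k l ν) * x⁻¹ : GL ι F) : Matrix ι ι F)
  · obtain ⟨Z, hZ, hZk, -⟩ := cols_small_of_mono hkl
      (by simpa [pow_two] using hpow 2 (by omega) (by omega)) (hpow 3 (by omega) le_rfl) hz
    obtain ⟨a, b, c, hab, hac, hbc, ha, hb, hc⟩ :=
      three_of_small (fun i => (x : Matrix ι ι F) i k = 0) Z (by omega) hZk
    exact el_of_el_tinv (el_of_three_zeros hM.map_tinv hq (by omega) (tinv_inv_mem hx)
      (not_mono_transpose hx') (r := k) hab hac hbc
      (by rw [coe_tinv_inv, transpose_apply]; exact ha)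
      (by rw [coe_tinv_inv, transpose_apply]; exact hb)
      (by rw [coe_tinv_inv, transpose_apply]; exact hc))
  · exact el_of_mem_rowStab hM hq (by omega)
      (M.mul_mem (M.mul_mem hx (hM.dg_mem (prod_tau k l ν))) (M.inv_mem hx))
      (conj_row x _ r fun j hj => tau_off (fun e => hj (by rw [e]; exact hk))
        (fun e => hj (by rw [e]; exact hl)) ν) hz

/-- A column of small support is a row with two zeros of the inverse transpose. -/
theorem el_of_col_support (hM : Over M) (hq : 5 ≤ Fintype.card F) (hn : 6 ≤ Fintype.card ι)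
    {x : GL ι F} (hx : x ∈ M) (hx' : ¬ Mono (x : Matrix ι ι F)) {k : ι} (Z : Finset ι)
    (hZ : Z.card + 2 ≤ Fintype.card ι) (hz : ∀ i ∉ Z, (x : Matrix ι ι F) i k = 0) : El M := by
  have : 1 < Zᶜ.card := by rw [Finset.card_compl]; omega
  obtain ⟨a, ha, b, hb, hab⟩ := Finset.one_lt_card.1 this
  exact el_of_el_tinv (el_of_two_zeros hM.map_tinv hq (by omega) (tinv_inv_mem hx)
    (not_mono_transpose hx') (r := k) hab
    (by rw [coe_tinv_inv, transpose_apply]; exact hz a (Finset.mem_compl.1 ha))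
    (by rw [coe_tinv_inv, transpose_apply]; exact hz b (Finset.mem_compl.1 hb)))

theorem el_of_mono_conj (hM : Over M) (hq : 5 ≤ Fintype.card F) (hn : 6 ≤ Fintype.card ι)
    {x : GL ι F} (hx : x ∈ M) (hx' : ¬ Mono (x : Matrix ι ι F)) {d : ι → Fˣ}
    (hz : Mono ((x * dg d * x⁻¹ : GL ι F) : Matrix ι ι F)) (U : Finset ι)
    (hU : ∀ i ∉ U, d i = 1) (hR : U.card ≤ 2) {k : ι} (hk : d k ≠ 1) : El M := by
  obtain ⟨Z, hZ, hz⟩ := col_small hz U hU hR hk
  exact el_of_col_support hM hq hn hx hx' Z (by omega) hz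

/-- If a conjugate of a diagonal element moving four coordinates is monomial, the transpose
has two zeros in one row. -/
theorem el_of_mono_conj_four (hM : Over M) (hq : 5 ≤ Fintype.card F) (hn : 10 ≤ Fintype.card ι)
    {x : GL ι F} (hx : x ∈ M) (hx' : ¬ Mono (x : Matrix ι ι F)) {d : ι → Fˣ}
    (hz : Mono ((x * dg d * x⁻¹ : GL ι F) : Matrix ι ι F)) (U : Finset ι)
    (hU : ∀ i ∉ U, d i = 1) (hR : U.card ≤ 4) {k : ι} (hk : d k ≠ 1) : El M := by
  obtain ⟨Z, hZ, hz⟩ := col_small hz U hU hR hk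
  exact el_of_col_support hM hq (by omega) hx hx' Z (by omega) hz

/-- A row with exactly one zero, when some scalar `γ` has `γ ^ n ≠ -1`: the monomial maps fixing
that row up to the scalar `γ` give two zeros. -/
theorem el_of_zero_scalar (hM : Over M) (hq : 5 ≤ Fintype.card F) (hn : 6 ≤ Fintype.card ι)
    {x : GL ι F} (hx : x ∈ M) (hx' : ¬ Mono (x : Matrix ι ι F)) {r k : ι}
    (hk : (x : Matrix ι ι F) r k = 0) {γ : Fˣ} (hγ : γ ^ Fintype.card ι ≠ -1) : El M := by
  classical
  by_cases h2 : ∃ l, l ≠ k ∧ (x : Matrix ι ι F) r l = 0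
  · obtain ⟨l, hlk, hl⟩ := h2
    exact el_of_two_zeros hM hq hn hx hx' (Ne.symm hlk) hk hl
  push_neg at h2
  obtain ⟨a, b, -, hab, -, -, hak, hbk, -⟩ :=
    three_of_small (fun i => i ≠ k) {k} (by simp; omega) (by simp)
  set σ : Equiv.Perm ι := Equiv.swap a b with hσ
  have hσk : σ k = k := Equiv.swap_apply_of_ne_of_ne (Ne.symm hak) (Ne.symm hbk)
  let u : ι → Fˣ := fun i =>
    if h : i = k then 1 else Units.mk0 ((x : Matrix ι ι F) r i) (h2 i h)
  let d : ι → Fˣ := fun i => if i = k then 1 else γ * u i / u (σ i)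
  set m := monoSL σ d k with hm
  have hσne : ∀ {j}, j ≠ k → σ j ≠ k := fun hj e => hj (σ.injective (e.trans hσk.symm))
  have hu : ∀ {j}, j ≠ k → (u j : F) = (x : Matrix ι ι F) r j := fun hj => by simp [u, hj]
  -- the entry at `k`
  have hdet : ((m : Matrix ι ι F) k k) = ((-(γ ^ (Fintype.card ι - 1))⁻¹ : Fˣ) : F) := by
    have hprod : ∏ i, d i = γ ^ (Fintype.card ι - 1) := by
      have e : d = (fun i => if i = k then 1 else γ) * fun i => u i / u (σ i) := by
        funext i
        rw [Pi.mul_apply]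
        simp only [d]
        split_ifs with hi
        · subst hi; rw [hσk, div_self', mul_one]
        · rw [mul_div_assoc]
      rw [e]
      simp only [Pi.mul_apply, Finset.prod_mul_distrib, Finset.prod_div_distrib,
        Equiv.prod_comp σ u, div_self', mul_one]
      rw [Finset.prod_ite, Finset.prod_const_one, one_mul, Finset.prod_const,
        Finset.filter_ne', Finset.card_erase_of_mem (Finset.mem_univ k), Finset.card_univ]
    have hpm : Matrix.GeneralLinearGroup.det (pm (F := F) σ) = -1 := by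
      refine Units.ext ?_
      rw [Matrix.GeneralLinearGroup.val_det_apply]
      show (σ.permMatrix F).det = _
      rw [Matrix.det_permutation, hσ, Equiv.Perm.sign_swap hab]
      simp
    rw [hm, monoSL, Units.val_mul, coe_dg, mul_diagonal, pm_apply, if_pos hσk, one_mul,
      Pi.mul_apply, Pi.mulSingle_eq_same, show d k = 1 from if_pos rfl, one_mul, map_mul, det_dg,
      hprod, hpm, neg_one_mul, inv_neg]
  set z := x * m * x⁻¹ with hz
  have hzM : z ∈ M :=
    M.mul_mem (M.mul_mem hx (hM.mono _ (monoSL_mem _ _ _) (mono_monoSL _ _ _))) (M.inv_mem hx)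
  have hrow : ((Pi.single r 1 : ι → F) ᵥ* (x : Matrix ι ι F)) ᵥ* (m : Matrix ι ι F) =
      (γ : F) • ((Pi.single r 1 : ι → F) ᵥ* (x : Matrix ι ι F)) := by
    rw [Matrix.single_one_vecMul]
    funext j
    rw [Matrix.vecMul, dotProduct, Finset.sum_eq_single (σ.symm j)
      (fun i _ hi => by
        rw [hm, monoSL_apply_ne _ _ (fun e => hi (by rw [← e, Equiv.symm_apply_apply])), mul_zero])
      (fun h => absurd (Finset.mem_univ _) h)]
    rcases eq_or_ne j k with rfl | hj
    · have e : σ.symm j = j := σ.injective (by rw [Equiv.apply_symm_apply, hσk])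
      rw [e]
      simp [hk]
    · have e : σ.symm j = σ j := by rw [hσ, Equiv.symm_swap]
      rw [e, hm, monoSL_apply_of_ne _ _ hj, if_pos (by rw [hσ, Equiv.swap_apply_self]),
        Pi.smul_apply, smul_eq_mul]
      simp only [d, if_neg hj, Units.val_div_eq_div_val, Units.val_mul, hu hj, hu (hσne hj),
        Matrix.row_apply]
      have := h2 _ (hσne hj)
      field_simp
  by_cases hzm : Mono (z : Matrix ι ι F)
  swap
  · refine el_of_mem_rowStab hM hq (by omega) (r := r) hzM ⟨γ, ?_⟩ hzm
    rw [hz, Units.val_mul, Units.val_mul, ← vecMul_vecMul, ← vecMul_vecMul, hrow, smul_vecMul,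
      vecMul_vecMul, ← Units.val_mul, mul_inv_cancel, Units.val_one, vecMul_one]
  set z' := dg (fun _ : ι => γ⁻¹) * z with hz'
  have hzv : ∀ v, (z' : Matrix ι ι F) *ᵥ v = ((γ⁻¹ : Fˣ) : F) • ((x : Matrix ι ι F) *ᵥ
      ((m : Matrix ι ι F) *ᵥ (((x⁻¹ : GL ι F) : Matrix ι ι F) *ᵥ v))) := fun v => by
    rw [hz', Units.val_mul, ← mulVec_mulVec, hz, Units.val_mul, Units.val_mul, ← mulVec_mulVec,
      ← mulVec_mulVec, dg_mulVec]
    rfl
  -- the columns of `γ⁻¹ m - 1`
  set c : F := (x : Matrix ι ι F) r a / (x : Matrix ι ι F) r b with hc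
  set w : ι → F := c • Pi.single b 1 - Pi.single a 1 with hw
  set W := Submodule.span F ({(x : Matrix ι ι F) *ᵥ w,
    (x : Matrix ι ι F) *ᵥ Pi.single k 1} : Set (ι → F)) with hW
  have hWd : finrank F W ≤ 2 := by
    have h := finrank_span_finset_le_card (R := F)
      ({(x : Matrix ι ι F) *ᵥ w, (x : Matrix ι ι F) *ᵥ Pi.single k 1} : Finset (ι → F))
    rw [Finset.coe_pair] at h
    exact h.trans Finset.card_le_two
  have hcol : ∀ j, j ≠ k → (m : Matrix ι ι F) *ᵥ Pi.single j 1 =
      (d j : F) • Pi.single (σ j) 1 := fun j hj => by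
    funext i
    rw [hm, mulVec_single_one, Matrix.col_apply, monoSL_apply_of_ne _ _ hj, Pi.smul_apply,
      Pi.single_apply, smul_eq_mul, mul_ite, mul_one, mul_zero]
    exact if_congr (by rw [hσ, Equiv.swap_apply_eq_iff]) rfl rfl
  have hcolk : (m : Matrix ι ι F) *ᵥ Pi.single k 1 =
      (m : Matrix ι ι F) k k • Pi.single k 1 := by
    funext i
    rcases eq_or_ne i k with rfl | hi
    · simp
    · rw [hm, mulVec_single_one, Matrix.col_apply, monoSL_apply_ne _ _ (hσne hi)]
      simp [hi]
  have hW' : ∀ v, (z' : Matrix ι ι F) *ᵥ v - v ∈ W := by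
    intro v
    set u' := ((x⁻¹ : GL ι F) : Matrix ι ι F) *ᵥ v
    have hv : v = (x : Matrix ι ι F) *ᵥ u' := by
      rw [mulVec_mulVec, ← Units.val_mul, mul_inv_cancel, Units.val_one, one_mulVec]
    have e : (z' : Matrix ι ι F) *ᵥ v - v =
        (x : Matrix ι ι F) *ᵥ (((γ⁻¹ : Fˣ) : F) • ((m : Matrix ι ι F) *ᵥ u') - u') := by
      rw [mulVec_sub, mulVec_smul, hzv, ← hv]
    rw [e, pi_eq_sum_univ' u', mulVec_sum, Finset.smul_sum, ← Finset.sum_sub_distrib, mulVec_sum]
    refine Submodule.sum_mem _ fun j _ => ?_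
    rw [mulVec_smul, smul_comm, ← smul_sub, mulVec_smul]
    refine Submodule.smul_mem _ _ ?_
    by_cases hjk : j = k
    · subst hjk
      rw [hcolk, smul_smul, sub_single_smul, mulVec_smul]
      exact Submodule.smul_mem _ _ (Submodule.subset_span (by simp))
    rw [hcol j hjk, smul_smul]
    by_cases hja : j = a
    · subst hja
      refine Submodule.subset_span (Or.inl ?_)
      rw [hw, hσ, Equiv.swap_apply_left, hc]
      congr 2
      simp only [d, if_neg hak, hσ, Equiv.swap_apply_left, Units.val_div_eq_div_val,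
        Units.val_mul, Units.val_inv_eq_inv_val, hu hak, hu hbk]
      field_simp
    by_cases hjb : j = b
    · subst hjb
      have e : (((γ⁻¹ : Fˣ) : F) * (d j : F)) • Pi.single (σ j) (1 : F) - Pi.single j 1 =
          (-(1 / c)) • w := by
        rw [hw, hσ, Equiv.swap_apply_right, hc]
        simp only [d, if_neg hbk, hσ, Equiv.swap_apply_right, Units.val_div_eq_div_val,
          Units.val_mul, Units.val_inv_eq_inv_val, hu hak, hu hbk]
        have := h2 a hak
        have := h2 j hbk
        match_scalars <;> field_simp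
      rw [e, mulVec_smul]
      exact Submodule.smul_mem _ _ (Submodule.subset_span (by simp))
    · have hσj : σ j = j := Equiv.swap_apply_of_ne_of_ne hja hjb
      rw [hσj, show ((γ⁻¹ : Fˣ) : F) * (d j : F) = 1 by simp [d, hjk, hσj], one_smul, sub_self,
        mulVec_zero]
      exact W.zero_mem
  have hz'm : Mono (z' : Matrix ι ι F) := by
    rw [hz', Units.val_mul]; exact mono_mul (mono_diagonal _) hzm
  obtain ⟨Z, hZ, hsupp⟩ := mono_support hz'm hWd hW'
  refine el_of_col_support hM hq hn hx hx' (k := k) Z (by omega) fun i hi => ?_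
  have h := hsupp ((x : Matrix ι ι F) *ᵥ Pi.single k 1)
    (((γ⁻¹ : Fˣ) : F) * (m : Matrix ι ι F) k k) (by
      rw [hzv, mulVec_mulVec (Pi.single k 1) _ (x : Matrix ι ι F), ← Units.val_mul, inv_mul_cancel,
        Units.val_one, one_mulVec, hcolk, mulVec_smul, smul_smul]) (fun e => hγ ?_) i hi
  · simpa using h
  · rw [hdet, ← Units.val_mul, Units.val_eq_one, inv_mul_eq_one] at e
    rw [show Fintype.card ι = Fintype.card ι - 1 + 1 by omega, pow_succ]
    conv_lhs => arg 2; rw [e]
    rw [← inv_neg, ← neg_neg (γ ^ (Fintype.card ι - 1) * _)]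
    simp [mul_comm]

theorem el_of_zero (hM : Over M) (hq : 5 ≤ Fintype.card F)
    (hn : 10 ≤ Fintype.card ι ∨ Fintype.card ι = 6)
    {x : GL ι F} (hx : x ∈ M) (hx' : ¬ Mono (x : Matrix ι ι F)) {r k : ι}
    (hk : (x : Matrix ι ι F) r k = 0) : El M := by
  classical
  rcases hn with hn | hn
  swap
  · obtain ⟨γ, hγ⟩ : ∃ γ : Fˣ, γ ^ Fintype.card ι ≠ -1 := by
      by_cases h2 : (-1 : Fˣ) = 1
      · obtain ⟨γ, hγ⟩ := IsCyclic.exists_generator (α := Fˣ)
        refine ⟨γ, fun e => ?_⟩
        have hord : orderOf γ = Fintype.card F - 1 := by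
          rw [orderOf_eq_card_of_forall_mem_zpowers hγ, Nat.card_eq_fintype_card,
            Fintype.card_units]
        rw [h2, hn] at e
        have hdvd := orderOf_dvd_of_pow_eq_one e
        rw [hord] at hdvd
        haveI : CharP F 2 := CharTwo.of_one_ne_zero_of_two_eq_zero one_ne_zero (by
          have h := congrArg Units.val h2
          rw [Units.val_neg, Units.val_one] at h
          linear_combination -h)
        have heven := FiniteField.even_card_of_char_two (ringChar.eq F 2)
        have := Nat.le_of_dvd (by norm_num) hdvd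
        have h456 : Fintype.card F - 1 = 4 ∨ Fintype.card F - 1 = 5 ∨ Fintype.card F - 1 = 6 := by
          omega
        rcases h456 with h' | h' | h' <;> rw [h'] at hdvd <;> omega
      · exact ⟨1, fun e => h2 (by rw [one_pow] at e; exact e.symm)⟩
    exact el_of_zero_scalar hM hq (by omega) hx hx' hk hγ
  obtain ⟨s, s', hrs, hrs', hss⟩ : ∃ s s', r ≠ s ∧ r ≠ s' ∧ s ≠ s' := by
    obtain ⟨s, hs⟩ : ∃ s, s ∉ ({r} : Finset ι) := by
      by_contra h; push_neg at h
      have := Finset.card_le_card (show (Finset.univ : Finset ι) ⊆ {r} from fun i _ => h i)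
      simp at this; omega
    obtain ⟨s', hs'⟩ : ∃ s', s' ∉ ({r, s} : Finset ι) := by
      by_contra h; push_neg at h
      have h2 := Finset.card_le_card (show (Finset.univ : Finset ι) ⊆ {r, s} from fun i _ => h i)
      rw [Finset.card_univ] at h2
      exact absurd (h2.trans Finset.card_le_two) (by omega)
    simp only [Finset.mem_insert, Finset.mem_singleton, not_or] at hs hs'
    exact ⟨s, s', Ne.symm hs, Ne.symm hs'.1, Ne.symm hs'.2⟩
  obtain ⟨a, b, c, hab, hac, hbc, hak, hbk, hck⟩ :=
    three_of_small (fun i => i ≠ k) {k} (by simp; omega) (by simp)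
  set y := ((x⁻¹ : GL ι F) : Matrix ι ι F) with hy
  let u : ι → F := fun i => (x : Matrix ι ι F) r i * y i s
  let v : ι → F := fun i => (x : Matrix ι ι F) r i * y i s'
  let P : Fin 3 → (Fin 3 → F) →ₗ[F] F := fun i => LinearMap.proj i
  let f : (Fin 3 → F) →ₗ[F] F × F := LinearMap.prod (u a • P 0 + u b • P 1 + u c • P 2)
    (v a • P 0 + v b • P 1 + v c • P 2)
  obtain ⟨w, hw, hw0⟩ := Submodule.exists_mem_ne_zero_of_ne_bot
    (LinearMap.ker_ne_bot_of_finrank_lt (f := f) (by simp))
  rw [LinearMap.mem_ker] at hw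
  simp [f, P, Prod.ext_iff] at hw
  obtain ⟨ε, hε⟩ := exists_avoid ({0, -(w 0)⁻¹, -(w 1)⁻¹, -(w 2)⁻¹} : Finset F)
    (Finset.card_le_four.trans_lt (by omega))
  simp only [Finset.mem_insert, Finset.mem_singleton, not_or] at hε
  have hne : ∀ i : Fin 3, 1 + ε * w i ≠ 0 := by
    intro i h
    have hi : w i ≠ 0 := fun e => by simp [e] at h
    have : ε = -(w i)⁻¹ := by field_simp; linear_combination h
    fin_cases i
    exacts [hε.2.1 this, hε.2.2.1 this, hε.2.2.2 this]
  set d0 : ι → Fˣ := Pi.mulSingle a (Units.mk0 _ (hne 0)) * Pi.mulSingle b (Units.mk0 _ (hne 1)) *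
    Pi.mulSingle c (Units.mk0 _ (hne 2)) with hd0
  set d : ι → Fˣ := d0 * Pi.mulSingle k (∏ i, d0 i)⁻¹ with hd
  have hprod : ∏ i, d i = 1 := by
    simp only [hd, Pi.mul_apply, Finset.prod_mul_distrib, prod_mulSingle, mul_inv_cancel]
  have hda : d a = Units.mk0 _ (hne 0) := by simp [hd, hd0, hab, hac, hak]
  have hdb : d b = Units.mk0 _ (hne 1) := by simp [hd, hd0, hab.symm, hbc, hbk]
  have hdc : d c = Units.mk0 _ (hne 2) := by simp [hd, hd0, hac.symm, hbc.symm, hck]
  have hoff : ∀ i ∉ ({a, b, c, k} : Finset ι), d i = 1 := by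
    intro i hi
    simp only [Finset.mem_insert, Finset.mem_singleton, not_or] at hi
    simp [hd, hd0, hi]
  have hsum : ∀ g : ι → F, g k = 0 → ∑ i, g i = 0 →
      g a * w 0 + g b * w 1 + g c * w 2 = 0 → ∑ i, g i * (d i : F) = 0 := by
    intro g hgk hg hgw
    have e : ∑ i, g i * (d i : F) = ∑ i, g i * ((d i : F) - 1) := by
      simp only [mul_sub, mul_one, Finset.sum_sub_distrib, hg, sub_zero]
    rw [e, ← Finset.sum_subset (Finset.subset_univ ({a, b, c, k} : Finset ι))
      (fun i _ hi => by rw [hoff i hi]; simp),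
      Finset.sum_insert (by simp [hab, hac, hak]), Finset.sum_insert (by simp [hbc, hbk]),
      Finset.sum_insert (by simp [hck]), Finset.sum_singleton, hgk, hda, hdb, hdc]
    simp only [Units.val_mk0, add_sub_cancel_left, zero_mul, add_zero]
    linear_combination ε * hgw
  set z := x * dg d * x⁻¹ with hz
  have hzM : z ∈ M := M.mul_mem (M.mul_mem hx (hM.dg_mem hprod)) (M.inv_mem hx)
  by_cases hzm : Mono (z : Matrix ι ι F)
  · obtain ⟨k', hk'⟩ : ∃ k', d k' ≠ 1 := by
      by_contra h; push_neg at h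
      apply hw0
      funext i
      have hh : ∀ i : Fin 3, 1 + ε * w i = 1 := by
        intro i; fin_cases i
        · exact congrArg Units.val (hda.symm.trans (h a))
        · exact congrArg Units.val (hdb.symm.trans (h b))
        · exact congrArg Units.val (hdc.symm.trans (h c))
      have := hh i
      simp at this
      exact this.resolve_left hε.1
    exact el_of_mono_conj_four hM hq hn hx hx' hzm _ hoff Finset.card_le_four hk'
  · refine el_of_two_zeros hM hq (by omega) hzM hzm (r := r) hss ?_ ?_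
    · rw [hz, conj_entry, ← hy]
      have := hsum u (by simp [u, hk]) (orth_entry x hrs) (by linear_combination hw.1)
      rw [← this]
      exact Finset.sum_congr rfl fun i _ => by simp [u]; ring
    · rw [hz, conj_entry, ← hy]
      have := hsum v (by simp [v, hk]) (orth_entry x hrs') (by linear_combination hw.2)
      rw [← this]
      exact Finset.sum_congr rfl fun i _ => by simp [v]; ring

/-- The main step. -/
theorem el_of_over (hM : Over M) (hq : 5 ≤ Fintype.card F)
    (hn : 10 ≤ Fintype.card ι ∨ Fintype.card ι = 6)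
    {x : GL ι F} (hx : x ∈ M) (hx' : ¬ Mono (x : Matrix ι ι F)) : El M := by
  classical
  by_cases h : ∃ r k, (x : Matrix ι ι F) r k = 0
  · obtain ⟨r, k, hk⟩ := h; exact el_of_zero hM hq hn hx hx' hk
  push_neg at h
  set y := ((x⁻¹ : GL ι F) : Matrix ι ι F) with hy
  by_cases h0 : ∃ r k, y r k = 0
  · obtain ⟨r, k, hk⟩ := h0
    exact el_of_zero hM hq hn (M.inv_mem hx) (fun e => hx' (by simpa using mono_inv e)) hk
  push_neg at h0
  obtain ⟨r, s, s', hrs, hrs', hss⟩ : ∃ r s s', r ≠ s ∧ r ≠ s' ∧ s ≠ (s' : ι) := by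
    obtain ⟨a, b, c, hab, hac, hbc, -⟩ :=
      three_of_small (fun _ : ι => True) ∅ (by simp; omega) (by simp)
    exact ⟨a, b, c, hab, hac, hbc⟩
  set u : ι → ι → F := fun t i => (x : Matrix ι ι F) r i * y i t with hu
  by_cases hc : ∃ t, r ≠ t ∧ ∃ a b, u t a ≠ u t b
  · obtain ⟨t, hrt, a, b, hab'⟩ := hc
    have hab : a ≠ b := fun e => hab' (by rw [e])
    set ν : Fˣ := Units.mk0 (u t b / u t a)
      (div_ne_zero (mul_ne_zero (h r b) (h0 b t)) (mul_ne_zero (h r a) (h0 a t))) with hνdef
    have hν : ν ≠ 1 := fun e => hab' (by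
      have := congrArg Units.val e
      rw [hνdef, Units.val_mk0, Units.val_one, div_eq_one_iff_eq
        (mul_ne_zero (h r a) (h0 a t))] at this
      exact this.symm)
    set z := x * dg (tau a b ν) * x⁻¹ with hz
    have hzM : z ∈ M := M.mul_mem (M.mul_mem hx (hM.dg_mem (prod_tau a b ν))) (M.inv_mem hx)
    have hoff : ∀ i ∉ ({a, b} : Finset ι), tau a b ν i = 1 := fun i hi => by
      simp only [Finset.mem_insert, Finset.mem_singleton, not_or] at hi
      exact tau_off hi.1 hi.2 ν
    by_cases hzm : Mono (z : Matrix ι ι F)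
    · exact el_of_mono_conj hM hq (by omega) hx hx' hzm {a, b} hoff
        Finset.card_le_two (k := a) (by rwa [tau_left hab])
    refine el_of_zero hM hq hn hzM hzm (r := r) (k := t) ?_
    rw [hz, conj_entry, ← hy]
    have e1 : ∑ i, (x : Matrix ι ι F) r i * (tau a b ν i : F) * y i t =
        ∑ i, u t i * ((tau a b ν i : F) - 1) := by
      simp only [hu, mul_sub, mul_one, Finset.sum_sub_distrib, hy, orth_entry x hrt, sub_zero]
      exact Finset.sum_congr rfl fun i _ => by ring
    rw [e1, ← Finset.sum_subset (Finset.subset_univ ({a, b} : Finset ι))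
      (fun i _ hi => by rw [hoff i hi]; simp), Finset.sum_pair hab, tau_left hab, tau_right hab,
      Units.val_inv_eq_inv_val, hνdef, Units.val_mk0]
    have hua : u t a ≠ 0 := mul_ne_zero (h r a) (h0 a t)
    have hub : u t b ≠ 0 := mul_ne_zero (h r b) (h0 b t)
    field_simp
    ring
  · exfalso
    push_neg at hc
    set C : F := u s r with hC
    set C' : F := u s' r with hC'
    have hC0 : C' ≠ 0 := mul_ne_zero (h r r) (h0 r s')
    have e : ∀ i, y i s * C' = C * y i s' := by
      intro i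
      apply mul_left_cancel₀ (h r i)
      linear_combination C' * hc s hrs i r - C * hc s' hrs' i r
    have h1 : (x * x⁻¹ : GL ι F).val s s = 1 := by rw [mul_inv_cancel]; exact one_apply_eq s
    have h2 : (x * x⁻¹ : GL ι F).val s s' = 0 := by rw [mul_inv_cancel]; exact one_apply_ne hss
    rw [Units.val_mul, Matrix.mul_apply] at h1 h2
    have : (∑ i, (x : Matrix ι ι F) s i * y i s) * C' =
        C * ∑ i, (x : Matrix ι ι F) s i * y i s' := by
      rw [Finset.sum_mul, Finset.mul_sum]
      exact Finset.sum_congr rfl fun i _ => by linear_combination (x : Matrix ι ι F) s i * e i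
    rw [hy, h1, h2, one_mul, mul_zero] at this
    exact hC0 this

end Cfsg.Lib.Linear.MonoMax
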