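import Cfsg.Agent.Lib.Linear.MonoMax.SLBase

/-!
# An element fixing a coordinate functional up to a scalar

If a subgroup of `SL` containing the monomial group contains a non-monomial element with one
row supported in one place, it contains an elementary transvection.
-/

set_option autoImplicit false

namespace Cfsg.Lib.Linear.MonoMax

open Matrix Module
open Cfsg.Lib.Linear.TVec

variable {ι : Type} [Fintype ι] [DecidableEq ι] {F : Type*} [Field F]

/-- The stabiliser of the line spanned by the `r`-th coordinate functional. -/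
def rowStab (r : ι) : Subgroup (GL ι F) where
  carrier := {g | ∃ γ : Fˣ, (Pi.single r 1 : ι → F) ᵥ* (g : Matrix ι ι F) =
    (γ : F) • Pi.single r 1}
  mul_mem' {g h} := by
    rintro ⟨γ, hγ⟩ ⟨δ, hδ⟩
    exact ⟨γ * δ, by rw [Units.val_mul, ← vecMul_vecMul, hγ, smul_vecMul, hδ, smul_smul,
      Units.val_mul]⟩
  one_mem' := ⟨1, by simp⟩
  inv_mem' {g} := by
    rintro ⟨γ, hγ⟩
    refine ⟨γ⁻¹, ?_⟩
    have h := congrArg (fun v => ((γ⁻¹ : Fˣ) : F) •
      (v ᵥ* ((g⁻¹ : GL ι F) : Matrix ι ι F))) hγ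
    simp only [vecMul_vecMul, ← Units.val_mul, mul_inv_cancel, Units.val_one, vecMul_one,
      smul_vecMul, smul_smul, inv_mul_cancel, one_smul] at h
    exact h.symm

theorem mem_rowStab_of_zero {g : GL ι F} {r : ι}
    (h : ∀ j, j ≠ r → (g : Matrix ι ι F) r j = 0) : g ∈ rowStab r := by
  have hrr : (g : Matrix ι ι F) r r ≠ 0 := by
    intro e
    have h1 : (g * g⁻¹ : GL ι F).val r r = 1 := by rw [mul_inv_cancel]; exact one_apply_eq r
    rw [Units.val_mul, Matrix.mul_apply, Finset.sum_eq_zero (fun j _ => ?_)] at h1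
    · exact zero_ne_one h1
    · rcases eq_or_ne j r with rfl | hj
      · rw [e, zero_mul]
      · rw [h j hj, zero_mul]
  refine ⟨Units.mk0 _ hrr, ?_⟩
  funext j
  rcases eq_or_ne j r with rfl | hj <;> simp [h, *]

theorem row_zero {g : GL ι F} {r : ι} (hg : g ∈ rowStab r) {j : ι} (hj : j ≠ r) :
    (g : Matrix ι ι F) r j = 0 := by
  obtain ⟨γ, hγ⟩ := hg
  simpa [hj] using congrFun hγ j

/-- The block away from `r`. -/
def block (r : ι) : rowStab (F := F) r →* Matrix {i // i ≠ r} {i // i ≠ r} F where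
  toFun g := ((g : GL ι F) : Matrix ι ι F).submatrix Subtype.val Subtype.val
  map_one' := by
    rw [Subgroup.coe_one, Units.val_one, Matrix.submatrix_one _ Subtype.val_injective]
  map_mul' g h := by
    ext i j
    rw [submatrix_apply, Subgroup.coe_mul, Units.val_mul, Matrix.mul_apply, Matrix.mul_apply]
    refine Eq.trans ?_ (Finset.sum_subtype (Finset.univ.filter (· ≠ r)) (by simp)
      fun l => ((g : GL ι F) : Matrix ι ι F) i l * ((h : GL ι F) : Matrix ι ι F) l j)
    rw [Finset.sum_filter]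
    refine Finset.sum_congr rfl fun l _ => ?_
    rcases eq_or_ne l r with rfl | hl
    · simp [row_zero h.2 j.2]
    · rw [if_pos hl]

theorem block_apply {r : ι} (g : rowStab (F := F) r) (i j : {i // i ≠ r}) :
    block r g i j = ((g : GL ι F) : Matrix ι ι F) i j := rfl

/-- An element of `SL` fixing the line of the functional `r` with trivial block. -/
theorem eq_tv_of_block_one {r : ι} {h : rowStab (F := F) r} (hb : block r h = 1)
    (hd : (h : GL ι F) ∈ Cfsg.Geo.specialLinear ι F) :
    ∃ w : ι → F, ∃ hw : (Pi.single r 1 : ι → F) ⬝ᵥ w = 0,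
      (h : GL ι F) = tv w (Pi.single r 1) hw := by
  set w : ι → F := fun i => ((h : GL ι F) : Matrix ι ι F) i r - if i = r then 1 else 0 with hwdef
  have hm : ((h : GL ι F) : Matrix ι ι F) = tvMat w (Pi.single r 1) := by
    ext i j
    rw [tvMat, Matrix.add_apply, vecMulVec_apply]
    rcases eq_or_ne j r with rfl | hj
    · simp [hwdef, one_apply]
    rcases eq_or_ne i r with rfl | hi
    · simp [hj, one_apply, row_zero h.2 hj, Ne.symm hj]
    · have := congrFun (congrFun hb ⟨i, hi⟩) ⟨j, hj⟩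
      rw [block_apply] at this
      simp [hj, this, one_apply]
  have hw : (Pi.single r 1 : ι → F) ⬝ᵥ w = 0 := by
    have h1 := congrArg Units.val (show Matrix.GeneralLinearGroup.det (h : GL ι F) = 1 from hd)
    rw [Matrix.GeneralLinearGroup.val_det_apply, hm, det_tvMat, Units.val_one] at h1
    exact add_eq_left.1 h1
  exact ⟨w, hw, Units.ext hm⟩

variable [Fintype F] {M : Subgroup (GL ι F)}

theorem el_of_mem_rowStab (hM : Over M) (hq : 5 ≤ Fintype.card F) (hn : 4 ≤ Fintype.card ι)
    {r : ι} {x : GL ι F} (hx : x ∈ M) (hxr : x ∈ rowStab r) (hx' : ¬ Mono (x : Matrix ι ι F)) :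
    El M := by
  classical
  set φ := (block (F := F) r).toHomUnits with hφ
  have hval : ∀ g, (φ g : Matrix _ _ F) = block r g := fun g => rfl
  set X : Subgroup (GL {i // i ≠ r} F) := (M.subgroupOf (rowStab r)).map φ with hX
  have lift : ∀ (π : Equiv.Perm {i // i ≠ r}) (c : {i // i ≠ r} → Fˣ),
      ∃ g : rowStab (F := F) r, (g : GL ι F) ∈ M ∧ Mono ((g : GL ι F) : Matrix ι ι F) ∧
        ∀ i j, block r g i j = if i = π j then (c j : F) else 0 := by
    intro π c
    set σ : Equiv.Perm ι := Equiv.Perm.ofSubtype π.symm with hσ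
    set d : ι → Fˣ := fun i => if h : i ≠ r then c ⟨i, h⟩ else 1 with hd
    have hσr : σ r = r := Equiv.Perm.ofSubtype_apply_of_not_mem _ (by simp)
    refine ⟨⟨monoSL σ d r, mem_rowStab_of_zero fun j hj =>
      monoSL_apply_ne σ d (by rw [hσr]; exact hj.symm)⟩,
      hM.mono _ (monoSL_mem σ d r) (mono_monoSL σ d r), mono_monoSL σ d r, fun i j => ?_⟩
    rw [block_apply, monoSL_apply_of_ne σ d j.2, hσ, Equiv.Perm.ofSubtype_apply_coe]
    by_cases h : i = π j
    · rw [if_pos (by rw [h]; simp), if_pos h]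
      simp [hd, j.2]
    · rw [if_neg (fun e => h (by rw [← π.symm_apply_eq]; exact Subtype.ext e)), if_neg h]
  by_cases hb : Mono (block r ⟨x, hxr⟩)
  · obtain ⟨π, c, hπ⟩ := mono_rep (g := φ ⟨x, hxr⟩) hb
    obtain ⟨g, hgM, hgm, hg⟩ := lift π c
    have hbg : block r g = block r ⟨x, hxr⟩ := by
      ext i j; rw [hg, ← hπ]; rfl
    have h1 : block r (⟨x, hxr⟩ * g⁻¹) = 1 := by
      rw [map_mul, ← hbg, ← map_mul, mul_inv_cancel, map_one]
    have hmem : x * (g : GL ι F)⁻¹ ∈ M := M.mul_mem hx (M.inv_mem hgM)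
    obtain ⟨w, hw, he⟩ := eq_tv_of_block_one h1 (hM.le hmem)
    rw [Subgroup.coe_mul, Subgroup.coe_inv] at he
    refine el_of_axis hM (by omega) (by omega) ⟨hw, by rw [← he]; exact hmem⟩ fun w0 => hx' ?_
    have : x = (g : GL ι F) := mul_inv_eq_one.1 (he.trans (Units.ext (by
      rw [coe_tv, w0, tvMat_zero_left, Units.val_one])))
    rw [this]; exact hgm
  · obtain ⟨a, b, hab, s, hs, hd, hmemX⟩ := el_of_nonMono hq
      (by rw [Fintype.card_subtype_compl, Fintype.card_subtype_eq]; omega)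
      (X := X) (fun y hy => by
        obtain ⟨π, c, hπ⟩ := mono_rep hy
        obtain ⟨g, hgM, -, hg⟩ := lift π c
        exact ⟨g, hgM, Units.ext (by ext i j; rw [hval, hg, hπ])⟩)
      ⟨⟨x, hxr⟩, hx, rfl⟩ hb
    obtain ⟨g, hgM, he⟩ := hmemX
    have hgM : (g : GL ι F) ∈ M := hgM
    have hab' : (a : ι) ≠ b := fun e => hab (Subtype.ext e)
    have hd' : (Pi.single (b : ι) 1 : ι → F) ⬝ᵥ Pi.single (a : ι) s = 0 := by simp [hab']
    set E := tv (Pi.single (a : ι) s) (Pi.single (b : ι) 1) hd' with hE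
    have hEr : E ∈ rowStab r := mem_rowStab_of_zero fun j hj => by
      simp [hE, coe_tv, tvMat, vecMulVec_apply, Ne.symm hj, Ne.symm a.2]
    have hbE : block r ⟨E, hEr⟩ = block r g := by
      rw [← hval g, he, coe_tv]
      ext i j
      simp [block_apply, hE, coe_tv, tvMat, vecMulVec_apply, one_apply, Pi.single_apply,
        Subtype.ext_iff]
    have h1 : block r (g * ⟨E, hEr⟩⁻¹) = 1 := by
      rw [map_mul, ← hbE, ← map_mul, mul_inv_cancel, map_one]
    obtain ⟨w, hw, hge⟩ := eq_tv_of_block_one h1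
      (mul_mem (hM.le hgM) (inv_mem (tv_mem_SL _ _ hd')))
    rw [Subgroup.coe_mul, Subgroup.coe_inv, mul_inv_eq_iff_eq_mul] at hge
    change (g : GL ι F) = tv w (Pi.single r 1) hw * E at hge
    rcases eq_or_ne w 0 with rfl | hw0
    · refine ⟨a, b, hab', s, hs, hd', ?_⟩
      convert hgM using 1
      rw [hge]
      exact Units.ext (by rw [Units.val_mul, coe_tv (0 : ι → F), tvMat_zero_left, one_mul])
    obtain ⟨k, hk⟩ := Function.ne_iff.1 hw0
    have hwr : w r = 0 := by simpa using hw
    have hkr : k ≠ r := fun e => hk (e ▸ hwr)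
    obtain ⟨ν, hν⟩ := exists_unit_avoid ({1, -1} : Finset F)
      ((Nat.add_le_add_right Finset.card_le_two 1).trans_lt (by omega))
    simp only [Finset.mem_insert, Finset.mem_singleton, not_or] at hν
    have hν2 : ν⁻¹ * ν⁻¹ ≠ 1 := fun h => by
      rw [← _root_.mul_inv_rev, inv_eq_one] at h
      rcases mul_self_eq_one_iff.1 (by rw [← Units.val_mul, h, Units.val_one] : (ν : F) * ν = 1)
        with e | e
      exacts [hν.1 e, hν.2 e]
    obtain ⟨l, hlr, hla, hlb, hkl⟩ : ∃ l, l ≠ r ∧ l ≠ a ∧ l ≠ b ∧ (k = a ∨ k = b ∨ k = l) := by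
      by_cases hka : k = (a : ι) ∨ k = b
      · obtain ⟨l, -, hl⟩ := Finset.exists_mem_notMem_of_card_lt_card
          (show ({r, (a : ι), (b : ι)} : Finset ι).card < (Finset.univ : Finset ι).card by
            rw [Finset.card_univ]; exact Finset.card_le_three.trans_lt (by omega))
        simp only [Finset.mem_insert, Finset.mem_singleton, not_or] at hl
        exact ⟨l, hl.1, hl.2.1, hl.2.2, hka.elim Or.inl fun e => Or.inr (Or.inl e)⟩
      · push_neg at hka
        exact ⟨k, hkr, hka.1, hka.2, Or.inr (Or.inr rfl)⟩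
    obtain ⟨d, hd1, hdr, hdk, hdab⟩ : ∃ d : ι → Fˣ,
        ∏ i, d i = 1 ∧ d r = 1 ∧ (d k : F) ≠ 1 ∧ d a = d b := by
      refine ⟨tau (a : ι) l ν * tau (b : ι) l ν, ?_, ?_, ?_, ?_⟩
      · simp only [Pi.mul_apply, Finset.prod_mul_distrib, prod_tau, mul_one]
      · rw [Pi.mul_apply, tau_off (Ne.symm a.2) (Ne.symm hlr),
          tau_off (Ne.symm b.2) (Ne.symm hlr), mul_one]
      · rcases hkl with e | e | e <;> subst e
        · rw [Pi.mul_apply, tau_left (Ne.symm hla), tau_off hab' (Ne.symm hla), mul_one]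
          exact hν.1
        · rw [Pi.mul_apply, tau_left (Ne.symm hlb), tau_off hab'.symm (Ne.symm hlb), one_mul]
          exact hν.1
        · rw [Pi.mul_apply, tau_right (Ne.symm hla), tau_right (Ne.symm hlb)]
          exact fun h => hν2 (Units.ext h)
      · rw [Pi.mul_apply, Pi.mul_apply, tau_left (Ne.symm hla), tau_left (Ne.symm hlb),
          tau_off hab' (Ne.symm hla), tau_off hab'.symm (Ne.symm hlb), one_mul, mul_one]
    set w' : ι → F := fun i => (d i : F) * w i with hw'
    have hw'0 : (Pi.single r 1 : ι → F) ⬝ᵥ w' = 0 := by simp [hw', hwr]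
    have hw1 : (Pi.single r 1 : ι → F) ⬝ᵥ (w' - w) = 0 := by
      rw [dotProduct_sub, hw'0, hw, sub_zero]
    have c1 : dg d * tv w (Pi.single r 1) hw = tv w' (Pi.single r 1) hw'0 * dg d := by
      refine Units.ext ?_
      rw [Units.val_mul, Units.val_mul, coe_dg, coe_tv, coe_tv]
      ext i j
      rw [diagonal_mul, mul_diagonal, tvMat, tvMat, Matrix.add_apply, Matrix.add_apply,
        vecMulVec_apply, vecMulVec_apply, hw']
      rcases eq_or_ne j r with rfl | hjr <;> rcases eq_or_ne i j with rfl | hij <;>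
        simp [*, one_apply, mul_comm, mul_left_comm, mul_add, add_mul]
    have c2 : dg d * E = E * dg d := by
      refine Units.ext ?_
      rw [Units.val_mul, Units.val_mul, coe_dg, hE, coe_tv]
      ext i j
      rw [diagonal_mul, mul_diagonal, tvMat, Matrix.add_apply, vecMulVec_apply]
      by_cases hij : i = j
      · subst hij; ring
      · rcases eq_or_ne i (a : ι) with rfl | hia
        · rcases eq_or_ne j (b : ι) with rfl | hjb
          · rw [hdab]; ring
          · simp [hij, hjb, one_apply]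
        · simp [hij, hia, one_apply]
    have c3 : tv (w' - w) (Pi.single r 1) hw1 * tv w (Pi.single r 1) hw =
        tv w' (Pi.single r 1) hw'0 :=
      Units.ext (by rw [Units.val_mul, coe_tv, coe_tv, coe_tv, tvMat_mul_left _ _ _ hw,
        sub_add_cancel])
    refine el_of_axis hM (by omega) (by omega) (w := w' - w) ⟨hw1, ?_⟩ fun e => ?_
    · have hconj : dg d * (g : GL ι F) * (dg d)⁻¹ * (g : GL ι F)⁻¹ =
          tv (w' - w) (Pi.single r 1) hw1 := by
        rw [mul_inv_eq_iff_eq_mul, mul_inv_eq_iff_eq_mul, hge, ← mul_assoc, c1, mul_assoc,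
          c2, ← mul_assoc, ← c3]
        simp only [mul_assoc]
      rw [← hconj]
      exact M.mul_mem (M.mul_mem (M.mul_mem (hM.dg_mem hd1) hgM) (M.inv_mem (hM.dg_mem hd1)))
        (M.inv_mem hgM)
    · have := congrFun e k
      simp only [Pi.sub_apply, hw', Pi.zero_apply] at this
      exact hdk ((mul_eq_right₀ hk).1 (sub_eq_zero.1 this))

end Cfsg.Lib.Linear.MonoMax
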