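import Cfsg.Agent.Lib.Linear.MonoMax.SLParabolic

/-!
# An element with three zeros in one row
-/

set_option autoImplicit false

namespace Cfsg.Lib.Linear.MonoMax

open Matrix Module
open Cfsg.Lib.Linear.TVec

variable {ι : Type} [Fintype ι] [DecidableEq ι] {F : Type*} [Field F]

/-- Column `k` of `x` is an eigenvector of `x d x⁻¹`. -/
theorem conj_eigen (x : GL ι F) (d : ι → Fˣ) (k : ι) :
    ((x * dg d * x⁻¹ : GL ι F) : Matrix ι ι F) *ᵥ ((x : Matrix ι ι F) *ᵥ Pi.single k 1) =
      (d k : F) • ((x : Matrix ι ι F) *ᵥ Pi.single k 1) := by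
  rw [mulVec_mulVec, ← Units.val_mul, inv_mul_cancel_right, Units.val_mul, coe_dg,
    ← mulVec_mulVec, ← mulVec_smul]
  congr 1
  funext i
  rcases eq_or_ne i k with rfl | hi <;> simp [*, mulVec_diagonal]

/-- The image of `x d x⁻¹ - 1` is spanned by the columns of `x` where `d ≠ 1`. -/
theorem conj_sub_mem (x : GL ι F) (d : ι → Fˣ) (U : Finset ι) (hU : ∀ i ∉ U, d i = 1)
    (v : ι → F) :
    ((x * dg d * x⁻¹ : GL ι F) : Matrix ι ι F) *ᵥ v - v ∈
      Submodule.span F ((fun j => (x : Matrix ι ι F) *ᵥ Pi.single j 1) '' (U : Set ι)) := by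
  set u := ((x⁻¹ : GL ι F) : Matrix ι ι F) *ᵥ v with hu
  have hv : (x : Matrix ι ι F) *ᵥ u = v := by
    rw [hu, mulVec_mulVec, ← Units.val_mul, mul_inv_cancel, Units.val_one, one_mulVec]
  have e : ((x * dg d * x⁻¹ : GL ι F) : Matrix ι ι F) *ᵥ v - v =
      (x : Matrix ι ι F) *ᵥ (fun i => ((d i : F) - 1) * u i) := by
    conv_lhs => rw [Units.val_mul, Units.val_mul, ← mulVec_mulVec, ← mulVec_mulVec, ← hu, dg_mulVec,
      ← hv, ← mulVec_sub]
    congr 1
    funext i
    simp; ring
  rw [e, show (fun i => ((d i : F) - 1) * u i) =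
    ∑ j ∈ U, (((d j : F) - 1) * u j) • (Pi.single j (1 : F) : ι → F) from funext fun i => by
      rw [Finset.sum_apply]
      simp only [Pi.smul_apply, smul_eq_mul, Pi.single_apply, mul_ite, mul_one, mul_zero,
        Finset.sum_ite_eq]
      split_ifs with h
      · rfl
      · rw [hU i h]; simp, mulVec_sum]
  refine Submodule.sum_mem _ fun j hj => ?_
  rw [mulVec_smul]
  exact Submodule.smul_mem _ _ (Submodule.subset_span ⟨j, hj, rfl⟩)

theorem finrank_cols_le (x : GL ι F) (U : Finset ι) :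
    finrank F (Submodule.span F ((fun j => (x : Matrix ι ι F) *ᵥ Pi.single j 1) '' (U : Set ι))) ≤
      U.card := by
  classical
  rw [← Finset.coe_image]
  exact (finrank_span_finset_le_card _).trans Finset.card_image_le

/-- If `x d x⁻¹` is monomial, the columns of `x` where `d ≠ 1` have small support. -/
theorem col_small {x : GL ι F} {d : ι → Fˣ}
    (hz : Mono ((x * dg d * x⁻¹ : GL ι F) : Matrix ι ι F)) {R : ℕ} (U : Finset ι)
    (hU : ∀ i ∉ U, d i = 1) (hR : U.card ≤ R) {k : ι} (hk : d k ≠ 1) :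
    ∃ Z : Finset ι, Z.card ≤ 2 * R ∧ ∀ i ∉ Z, (x : Matrix ι ι F) i k = 0 := by
  obtain ⟨Z, hZ, hv⟩ := mono_support hz ((finrank_cols_le x U).trans hR) (conj_sub_mem x d U hU)
  refine ⟨Z, hZ, fun i hi => ?_⟩
  simpa using hv _ _ (conj_eigen x d k) (fun e => hk (Units.ext e)) i hi

/-- If `d` is `1` on the support of row `r`, then `x d x⁻¹` fixes that coordinate functional. -/
theorem conj_row (x : GL ι F) (d : ι → Fˣ) (r : ι)
    (h : ∀ j, (x : Matrix ι ι F) r j ≠ 0 → d j = 1) :
    x * dg d * x⁻¹ ∈ rowStab r := by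
  have e : (Pi.single r 1 : ι → F) ᵥ* (x : Matrix ι ι F) ᵥ* (dg d : Matrix ι ι F) =
      (Pi.single r 1 : ι → F) ᵥ* (x : Matrix ι ι F) := by
    funext j
    by_cases hj : (x : Matrix ι ι F) r j = 0
    · simp [vecMul_diagonal, hj]
    · simp [vecMul_diagonal, h j hj]
  refine ⟨1, ?_⟩
  rw [Units.val_mul, Units.val_mul, ← vecMul_vecMul, ← vecMul_vecMul, e, vecMul_vecMul,
    ← Units.val_mul, mul_inv_cancel]
  simp

/-- A monomial `z = x diag(ν, ν⁻¹) x⁻¹` with `ν` of order at least 4 has `π² = 1`. -/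
theorem perm_involutive {z x : GL ι F} {k l : ι} (hkl : k ≠ l) {ν : Fˣ} (h1 : ν ^ 3 ≠ 1)
    (hzx : z = x * dg (tau k l ν) * x⁻¹) {π : Equiv.Perm ι} {c : ι → Fˣ}
    (hπ : ∀ i j, (z : Matrix ι ι F) i j = if i = π j then (c j : F) else 0) (i : ι) :
    π (π i) = i := by
  by_contra hi2
  set a := π i with ha
  set b := π a with hb
  have hia : a ≠ i := fun e => hi2 (by rw [hb, e]; exact e)
  have hab : b ≠ a := fun e => hia (π.injective e)
  have hib : b ≠ i := hi2
  set W := Submodule.span F
    ((fun j => (x : Matrix ι ι F) *ᵥ Pi.single j 1) '' (({k, l} : Finset ι) : Set ι)) with hW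
  have hWd : finrank F W ≤ 2 := (finrank_cols_le x _).trans Finset.card_le_two
  have hzW : ∀ v, (z : Matrix ι ι F) *ᵥ v - v ∈ W := by
    intro v; rw [hzx]
    refine conj_sub_mem x _ _ (fun j hj => ?_) v
    simp only [Finset.mem_insert, Finset.mem_singleton, not_or] at hj
    exact tau_off hj.1 hj.2 ν
  have col : ∀ j, (z : Matrix ι ι F) *ᵥ Pi.single j 1 = Pi.single (π j) (c j : F) := by
    intro j; funext m; simp [hπ, Pi.single_apply]
  set v1 : ι → F := Pi.single a (c i : F) - Pi.single i 1 with hv1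
  set v2 : ι → F := Pi.single b (c a : F) - Pi.single a 1 with hv2
  have hv1W : v1 ∈ W := by have := hzW (Pi.single i 1); rwa [col] at this
  have hv2W : v2 ∈ W := by have := hzW (Pi.single a 1); rwa [col] at this
  have hli : LinearIndependent F ![v1, v2] := by
    refine LinearIndependent.pair_iff.2 fun s t h => ?_
    have hi' := congrFun h i
    have hb' := congrFun h b
    simp [hv1, hv2, hia.symm, hib.symm] at hi'
    simp [hv1, hv2, hab, hib] at hb'
    exact ⟨hi', hb'⟩
  have hspan : W = Submodule.span F (Set.range ![v1, v2]) := by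
    refine (Submodule.eq_of_le_of_finrank_le (Submodule.span_le.2 ?_) ?_).symm
    · rintro _ ⟨j, rfl⟩; fin_cases j <;> assumption
    · rw [finrank_span_eq_card hli]; simpa using hWd
  have hsupp : ∀ u ∈ W, ∃ α β : F, u = α • v1 + β • v2 := by
    intro u hu
    rw [hspan, Matrix.range_cons_cons_empty, Submodule.mem_span_pair] at hu
    obtain ⟨α, β, h⟩ := hu
    exact ⟨α, β, h.symm⟩
  set u : ι → F := (x : Matrix ι ι F) *ᵥ Pi.single k 1 with hu
  have heig : (z : Matrix ι ι F) *ᵥ u = (ν : F) • u := by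
    rw [hzx, conj_eigen, tau_left hkl]
  obtain ⟨α, β, huab⟩ := hsupp u (Submodule.subset_span ⟨k, by simp, rfl⟩)
  have hout : ∀ m, m ≠ i → m ≠ a → m ≠ b → u m = 0 := by
    intro m h1 h2 h3; simp [huab, hv1, hv2, h1, h2, h3]
  have hzu : ∀ m, (c m : F) * u m = (ν : F) * u (π m) := by
    intro m
    have := congrFun heig (π m)
    rw [mulVec, dotProduct, Finset.sum_eq_single m
      (fun l' _ hl => by rw [hπ, if_neg (fun e => hl (π.injective e).symm), zero_mul])
      (fun h => absurd (Finset.mem_univ _) h), hπ, if_pos rfl] at this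
    simpa using this
  have hu0 : u ≠ 0 := by
    intro e
    have := congrArg (fun w => ((x⁻¹ : GL ι F) : Matrix ι ι F) *ᵥ w) e
    simp only [hu, mulVec_mulVec, ← Units.val_mul, inv_mul_cancel, Units.val_one, one_mulVec,
      mulVec_zero, Pi.single_eq_zero_iff, one_ne_zero] at this
  by_cases hbi : π b = i
  · -- a three-cycle: `ν³ = 1`
    obtain ⟨α', β', h'⟩ := hsupp _ (hzW (Pi.single b 1))
    rw [col, hbi] at h'
    have e1 := congrFun h' i
    have e2 := congrFun h' a
    have e3 := congrFun h' b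
    simp [hv1, hv2, hia.symm, hib.symm] at e1
    simp [hv1, hv2, hia, hab.symm] at e2
    simp [hv1, hv2, hab, hib] at e3
    have hprod : (c i : F) * c a * c b = 1 := by
      linear_combination ((c i : F) * c a) * e1 + (c a : F) * e2 + e3
    have f1 := hzu i
    have f2 := hzu a
    have f3 := hzu b
    rw [← ha] at f1; rw [← hb] at f2; rw [hbi] at f3
    have hui : u i ≠ 0 := by
      intro e
      rw [e, mul_zero] at f1
      have hua : u a = 0 := (mul_eq_zero.1 f1.symm).resolve_left ν.ne_zero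
      rw [hua, mul_zero] at f2
      have hub : u b = 0 := (mul_eq_zero.1 f2.symm).resolve_left ν.ne_zero
      refine hu0 (funext fun m => ?_)
      by_cases e1 : m = i; · subst e1; exact e
      by_cases e2 : m = a; · subst e2; exact hua
      by_cases e3 : m = b; · subst e3; exact hub
      exact hout m e1 e2 e3
    apply h1
    refine Units.ext ?_
    rw [Units.val_pow_eq_pow_val, Units.val_one]
    have : ((ν : F) ^ 3 - 1) * u i = 0 := by
      linear_combination (u i) * hprod - (c a : F) * (c b : F) * f1 - (ν : F) * (c b : F) * f2 -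
        (ν : F) ^ 2 * f3
    exact sub_eq_zero.1 ((mul_eq_zero.1 this).resolve_right hui)
  · have e1 : π b ≠ a := fun e => hib (π.injective e)
    have e2 : π b ≠ b := fun e => hab (π.injective e)
    have f3 := hzu b
    rw [hout _ hbi e1 e2, mul_zero, mul_eq_zero, or_iff_right (c b).ne_zero] at f3
    have f2 := hzu a
    rw [← hb, f3, mul_zero, mul_eq_zero, or_iff_right (c a).ne_zero] at f2
    have f1 := hzu i
    rw [← ha, f2, mul_zero, mul_eq_zero, or_iff_right (c i).ne_zero] at f1
    refine hu0 (funext fun m => ?_)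
    by_cases e1 : m = i; · subst e1; exact f1
    by_cases e2 : m = a; · subst e2; exact f2
    by_cases e3 : m = b; · subst e3; exact f3
    exact hout m e1 e2 e3

variable [Fintype F] {M : Subgroup (GL ι F)}

/-- A row with a single non-zero entry. -/
theorem el_of_row_single (hM : Over M) (hq : 5 ≤ Fintype.card F) (hn : 4 ≤ Fintype.card ι)
    {x : GL ι F} (hx : x ∈ M) (hx' : ¬ Mono (x : Matrix ι ι F)) {r j : ι}
    (h : ∀ i, i ≠ j → (x : Matrix ι ι F) r i = 0) : El M := by
  set w := monoSL (F := F) (Equiv.swap r j) 1 r with hw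
  have hwM : w ∈ M := hM.mono _ (monoSL_mem _ _ _) (mono_monoSL _ _ _)
  refine el_of_mem_rowStab hM hq hn (M.mul_mem hx hwM) (mem_rowStab_of_zero (r := r) fun i hi => ?_)
    fun hm => hx' ?_
  · rw [Units.val_mul, Matrix.mul_apply]
    refine Finset.sum_eq_zero fun m _ => ?_
    rcases eq_or_ne m j with rfl | hm
    · rw [hw, monoSL_apply_ne _ _ (by rw [Equiv.swap_apply_right]; exact Ne.symm hi), mul_zero]
    · rw [h m hm, zero_mul]
  · have := mono_mul hm (mono_inv (mono_monoSL (F := F) (Equiv.swap r j) 1 r))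
    rwa [← hw, ← Units.val_mul, mul_inv_cancel_right] at this

theorem tinv_inv_mem {x : GL ι F} (hx : x ∈ M) : tinv x⁻¹ ∈ M.map tinv :=
  ⟨x⁻¹, M.inv_mem hx, rfl⟩

omit [Fintype F] in
theorem not_mono_transpose {x : GL ι F} (hx' : ¬ Mono (x : Matrix ι ι F)) :
    ¬ Mono (tinv x⁻¹ : Matrix ι ι F) := fun h => hx' (by
  have := mono_transpose h
  rwa [coe_tinv_inv, transpose_transpose] at this)

/-- A column with a single non-zero entry. -/
theorem el_of_col_single (hM : Over M) (hq : 5 ≤ Fintype.card F) (hn : 4 ≤ Fintype.card ι)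
    {x : GL ι F} (hx : x ∈ M) (hx' : ¬ Mono (x : Matrix ι ι F)) {r j : ι}
    (h : ∀ i, i ≠ j → (x : Matrix ι ι F) i r = 0) : El M :=
  el_of_el_tinv (el_of_row_single hM.map_tinv hq hn (tinv_inv_mem hx) (not_mono_transpose hx')
    (r := r) (j := j) fun i hi => by rw [coe_tinv_inv, transpose_apply]; exact h i hi)

omit [Fintype F] in
/-- If `x diag(ν, ν⁻¹) x⁻¹` is monomial, both columns live on one set of two coordinates. -/
theorem cols_small_of_mono {x : GL ι F} {p q : ι} (hpq : p ≠ q) {ν : Fˣ} (h2 : ν * ν ≠ 1)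
    (h3 : ν ^ 3 ≠ 1) (hzm : Mono ((x * dg (tau p q ν) * x⁻¹ : GL ι F) : Matrix ι ι F)) :
    ∃ Z : Finset ι, Z.card ≤ 2 ∧ (∀ i ∉ Z, (x : Matrix ι ι F) i p = 0) ∧
      (∀ i ∉ Z, (x : Matrix ι ι F) i q = 0) ∧ ∀ i, (ν * ν) * (ν * ν) ≠ 1 →
        (x : Matrix ι ι F) i p ≠ 0 → (x : Matrix ι ι F) i q = 0 := by
  classical
  set z := x * dg (tau p q ν) * x⁻¹ with hz
  obtain ⟨π, c, hπ⟩ := mono_rep hzm
  have hinv := perm_involutive hpq (h3) hz hπ
  have hz2 : z * z = x * dg (tau p q (ν * ν)) * x⁻¹ := by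
    rw [hz, ← tau_mul, ← dg_mul]; group
  have hdiag : ∀ i j, i ≠ j → ((z * z : GL ι F) : Matrix ι ι F) i j = 0 := by
    intro i j hij
    rw [Units.val_mul, Matrix.mul_apply]
    refine Finset.sum_eq_zero fun m _ => ?_
    rw [hπ, hπ]
    split_ifs with h1 h2
    · exact absurd (by rw [h1, h2, hinv]) hij
    all_goals simp
  set D : ι → F := fun i => ((z * z : GL ι F) : Matrix ι ι F) i i with hD
  have hmv : ∀ v : ι → F, ((z * z : GL ι F) : Matrix ι ι F) *ᵥ v = fun i => D i * v i := by
    intro v; funext i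
    rw [mulVec, dotProduct, Finset.sum_eq_single i (fun j _ hj => by rw [hdiag i j hj.symm,
      zero_mul]) (fun h => absurd (Finset.mem_univ _) h)]
  set Z : Finset ι := Finset.univ.filter fun i => D i ≠ 1 with hZ
  have heig : ∀ j i, D i * (x : Matrix ι ι F) i j =
      (tau p q (ν * ν) j : F) * (x : Matrix ι ι F) i j := by
    intro j i
    have h1 := conj_eigen x (tau p q (ν * ν)) j
    rw [← hz2, hmv] at h1
    simpa using congrFun h1 i
  refine ⟨Z, ?_, ?_⟩
  · set W := Submodule.span F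
      ((fun j => (x : Matrix ι ι F) *ᵥ Pi.single j 1) '' (({p, q} : Finset ι) : Set ι)) with hW
    have hli : LinearIndependent F fun i : Z => (Pi.single (i : ι) (1 : F) : ι → F) :=
      (Pi.linearIndependent_single_one ι F).comp _ Subtype.val_injective
    have hle : Submodule.span F (Set.range fun i : Z => (Pi.single (i : ι) (1 : F) : ι → F)) ≤
        W := by
      rw [Submodule.span_le]
      rintro _ ⟨⟨i, hi⟩, rfl⟩
      have h1 : D i ≠ 1 := (Finset.mem_filter.1 hi).2
      have h2 := conj_sub_mem x (tau p q (ν * ν)) {p, q} (fun j hj => by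
        simp only [Finset.mem_insert, Finset.mem_singleton, not_or] at hj
        exact tau_off hj.1 hj.2 _) (Pi.single i 1)
      rw [← hz2, hmv] at h2
      have h3 : ((fun j => D j * (Pi.single i 1 : ι → F) j) - Pi.single i 1 : ι → F) =
          (D i - 1) • Pi.single i 1 := by
        funext j; rcases eq_or_ne j i with rfl | hj <;> simp [*]
      rw [h3] at h2
      simpa [smul_smul, inv_mul_cancel₀ (sub_ne_zero.2 h1)] using
        W.smul_mem (D i - 1)⁻¹ h2
    have := (Submodule.finrank_mono hle).trans ((finrank_cols_le x _).trans Finset.card_le_two)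
    rwa [finrank_span_eq_card hli, Fintype.card_coe] at this
  · have hsupp : ∀ j, tau p q (ν * ν) j ≠ 1 → ∀ i ∉ Z, (x : Matrix ι ι F) i j = 0 := by
      intro j hj i hi
      have h1 := conj_eigen x (tau p q (ν * ν)) j
      rw [← hz2, hmv] at h1
      have h2 := congrFun h1 i
      have hDi : D i = 1 := by simpa [hZ] using hi
      simp [hDi] at h2
      have h3 : ((tau p q (ν * ν) j : F) - 1) * (x : Matrix ι ι F) i j = 0 := by
        linear_combination -h2
      exact (mul_eq_zero.1 h3).resolve_left fun e => hj (Units.ext (sub_eq_zero.1 e))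
    refine ⟨hsupp p (by rw [tau_left hpq]; exact h2),
      hsupp q (by rw [tau_right hpq, ne_eq, inv_eq_one]; exact h2), fun i h4 hp => ?_⟩
    by_contra hq
    have e1 := mul_right_cancel₀ hp (heig p i)
    have e2 := mul_right_cancel₀ hq (heig q i)
    rw [e1, tau_left hpq, tau_right hpq] at e2
    exact h4 (mul_eq_one_iff_eq_inv.2 (Units.ext e2))

theorem el_of_three_zeros (hM : Over M) (hq : 5 ≤ Fintype.card F) (hn : 4 ≤ Fintype.card ι)
    {x : GL ι F} (hx : x ∈ M) (hx' : ¬ Mono (x : Matrix ι ι F)) {r k l m : ι} (hkl : k ≠ l)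
    (hkm : k ≠ m) (hlm : l ≠ m) (hk : (x : Matrix ι ι F) r k = 0)
    (hl : (x : Matrix ι ι F) r l = 0) (hm : (x : Matrix ι ι F) r m = 0) : El M := by
  classical
  obtain ⟨ν, hν⟩ := IsCyclic.exists_generator (α := Fˣ)
  have hord : orderOf ν = Fintype.card F - 1 := by
    rw [orderOf_eq_card_of_forall_mem_zpowers hν, Nat.card_eq_fintype_card, Fintype.card_units]
  have hpow : ∀ e, 0 < e → e ≤ 3 → ν ^ e ≠ 1 := by
    intro e he he' h
    have := Nat.le_of_dvd he (orderOf_dvd_of_pow_eq_one h)
    omega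
  by_contra hEl
  -- a diagonal square gives two columns supported in a set of two coordinates
  have key : ∀ p q : ι, p ≠ q → (x : Matrix ι ι F) r p = 0 → (x : Matrix ι ι F) r q = 0 →
      ∃ Z : Finset ι, Z.card ≤ 2 ∧ (∀ i ∉ Z, (x : Matrix ι ι F) i p = 0) ∧
        ∀ i ∉ Z, (x : Matrix ι ι F) i q = 0 := by
    intro p q hpq hp hq'
    obtain ⟨Z, hZ, h1, h2, -⟩ := cols_small_of_mono hpq (ν := ν) (by simpa [pow_two] using hpow 2 (by omega) (by omega))
      (hpow 3 (by omega) le_rfl) (by_contra fun h => hEl (el_of_mem_rowStab hM hq hn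
        (M.mul_mem (M.mul_mem hx (hM.dg_mem (prod_tau p q ν))) (M.inv_mem hx))
        (conj_row x _ r fun j hj => tau_off (fun e => hj (by rw [e]; exact hp))
          (fun e => hj (by rw [e]; exact hq')) ν) h))
    exact ⟨Z, hZ, h1, h2⟩
  obtain ⟨Z, hZ, hZk, hZl⟩ := key k l hkl hk hl
  obtain ⟨Z', hZ', hZ'k, hZ'm⟩ := key k m hkm hk hm
  set S : Finset ι := Finset.univ.filter fun i => (x : Matrix ι ι F) i k ≠ 0 with hS
  rcases Nat.lt_or_ge S.card 2 with hS2 | hS2
  · refine hEl ?_
    obtain ⟨j, hj⟩ : ∃ j, S ⊆ {j} := by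
      rcases S.eq_empty_or_nonempty with e | ⟨j, hj⟩
      · exact ⟨k, by simp [e]⟩
      · exact ⟨j, fun i hi => by
          rw [Finset.mem_singleton]; exact Finset.card_le_one.1 (by omega) i hi j hj⟩
    exact el_of_col_single hM hq hn hx hx' (r := k) (j := j) fun i hi => by
      by_contra e
      exact hi (Finset.mem_singleton.1 (hj (by simp [hS, e])))
  have hSZ : S = Z := Finset.eq_of_subset_of_card_le (fun i hi => by
    by_contra e; exact (Finset.mem_filter.1 hi).2 (hZk i e)) (hZ.trans hS2)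
  have hSZ' : S = Z' := Finset.eq_of_subset_of_card_le (fun i hi => by
    by_contra e; exact (Finset.mem_filter.1 hi).2 (hZ'k i e)) (hZ'.trans hS2)
  rw [← hSZ] at hZk hZl hZ
  rw [← hSZ'] at hZ'm
  -- three independent columns in a plane
  set T : Finset ι := {k, l, m} with hT
  have hli : LinearIndependent F fun j : T => (x : Matrix ι ι F) *ᵥ Pi.single (j : ι) (1 : F) := by
    have h0 := (Pi.linearIndependent_single_one ι F).comp (fun j : T => (j : ι))
      Subtype.val_injective
    exact h0.map' (Matrix.toLin' (x : Matrix ι ι F))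
      (LinearMap.ker_eq_bot.2 (Function.LeftInverse.injective
        (g := fun v => ((x⁻¹ : GL ι F) : Matrix ι ι F) *ᵥ v) fun v => by
        simp only [Matrix.toLin'_apply, mulVec_mulVec, ← Units.val_mul, inv_mul_cancel,
          Units.val_one, one_mulVec]))
  have hle : Submodule.span F (Set.range fun j : T => (x : Matrix ι ι F) *ᵥ Pi.single (j : ι) 1) ≤
      Submodule.span F ((fun i => (Pi.single i (1 : F) : ι → F)) '' (S : Set ι)) := by
    rw [Submodule.span_le]
    rintro _ ⟨⟨j, hj⟩, rfl⟩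
    have hz : ∀ i ∉ S, (x : Matrix ι ι F) i j = 0 := by
      simp only [hT, Finset.mem_insert, Finset.mem_singleton] at hj
      rcases hj with rfl | rfl | rfl
      · exact hZk
      · exact hZl
      · exact hZ'm
    show (x : Matrix ι ι F) *ᵥ Pi.single j 1 ∈ _
    rw [show (x : Matrix ι ι F) *ᵥ Pi.single j 1 =
      ∑ i ∈ S, (x : Matrix ι ι F) i j • (Pi.single i (1 : F) : ι → F) from funext fun i => by
        rw [Finset.sum_apply]
        simp only [Pi.smul_apply, smul_eq_mul, Pi.single_apply, mul_ite, mul_one, mul_zero,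
          Finset.sum_ite_eq]
        split_ifs with h
        · simp
        · simp [hz i h]]
    exact Submodule.sum_mem _ fun i hi =>
      Submodule.smul_mem _ _ (Submodule.subset_span ⟨i, hi, rfl⟩)
  have h1 := Submodule.finrank_mono hle
  rw [finrank_span_eq_card hli, Fintype.card_coe, hT,
    Finset.card_eq_three.2 ⟨k, l, m, hkl, hkm, hlm, rfl⟩, ← Finset.coe_image] at h1
  have h2 : finrank F (Submodule.span F
      ((S.image fun i => (Pi.single i (1 : F) : ι → F)) : Set (ι → F))) ≤ 2 :=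
    ((finrank_span_finset_le_card _).trans Finset.card_image_le).trans hZ
  omega

end Cfsg.Lib.Linear.MonoMax
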